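import Cfsg.Agent.Lib.U42.Checks
import Cfsg.Agent.Lib.SympTransvection
import Cfsg.Agent.S0765
import Cfsg.Agent.S0245
import Cfsg.Agent.S0270
import Cfsg.Agent.S0280

/-!
`U₄(2) ≅ PSp₄(3)`.
-/

set_option autoImplicit false

namespace CfsgLib.U42

open Matrix

abbrev I2 := Fin 2 ⊕ Fin 2

/-- The number of a coordinate. -/
def num : I2 → ℕ
  | .inl i => i.val
  | .inr i => 2 + i.val

variable {K F : Type*} [Field K] [Field F] {ω : F}

/-- A symplectic matrix from its code. -/
def m3 (A : List ℕ) : Matrix I2 I2 K := Matrix.of fun i j => ((e A (num i) (num j) : ℕ) : K)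

/-- A field element from its code. -/
def d4 (ω : F) (n : ℕ) : F :=
  (if n % 4 = 1 ∨ n % 4 = 3 then 1 else 0) + if n % 4 = 2 ∨ n % 4 = 3 then ω else 0

/-- A unitary matrix from its code. -/
def m4 (ω : F) (A : List ℕ) : Matrix (Fin 4) (Fin 4) F := Matrix.of fun i j => d4 ω (e A i.val j.val)

theorem e_map (f : ℕ → ℕ) {i j : ℕ} (hi : i < 4) (hj : j < 4) :
    e ((List.range 16).map f) i j = f (4 * i + j) := by
  simp [e, List.getD_eq_getElem?_getD, List.getElem?_eq_getElem (show 4 * i + j < ((List.range 16).map f).length by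
    simp; omega)]

theorem num_lt (i : I2) : num i < 4 := by
  rcases i with i | i <;> simp only [num] <;> omega

section Three

variable [CharP K 3]

theorem cast_mod (n : ℕ) : ((n % 3 : ℕ) : K) = (n : K) :=
  (CharP.natCast_eq_natCast K 3).mpr (Nat.mod_modEq n 3)

theorem m3_mul (A B : List ℕ) : (m3 (mul3L A B) : Matrix I2 I2 K) = m3 A * m3 B := by
  ext i j
  have hi := num_lt i; have hj := num_lt j
  simp only [m3, mul3L, Matrix.of_apply, Matrix.mul_apply, e_map _ hi hj,
    show (4 * num i + num j) / 4 = num i by omega, show (4 * num i + num j) % 4 = num j by omega,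
    cast_mod, Fintype.sum_sum_type, Fin.sum_univ_two]
  simp [num]
  ring

theorem m3_tr (A : List ℕ) : (m3 (trL A) : Matrix I2 I2 K) = (m3 A)ᵀ := by
  ext i j
  have hi := num_lt i; have hj := num_lt j
  simp only [m3, trL, Matrix.of_apply, Matrix.transpose_apply, e_map _ hi hj,
    show (4 * num i + num j) / 4 = num i by omega, show (4 * num i + num j) % 4 = num j by omega]

theorem two_eq : ((2 : ℕ) : K) = -1 := by
  have h3 : ((3 : ℕ) : K) = 0 := CharP.cast_eq_zero K 3
  push_cast at h3 ⊢
  linear_combination h3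

theorem m3_one : (m3 oneL : Matrix I2 I2 K) = 1 := by
  ext i j
  rcases i with i | i <;> rcases j with j | j <;> fin_cases i <;> fin_cases j <;>
    simp [m3, e, num, oneL]

theorem m3_J : (m3 jL : Matrix I2 I2 K) = Matrix.J (Fin 2) K := by
  have h2 : (2 : K) = -1 := by simpa using two_eq (K := K)
  ext i j
  rcases i with i | i <;> rcases j with j | j <;> fin_cases i <;> fin_cases j <;>
    simp [m3, e, num, jL, Matrix.J, h2]

theorem m3_tcode (n c : ℕ) :
    (m3 (tcode n c) : Matrix I2 I2 K) =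
      Cfsg.sympTransvection 2 (fun i => ((n / 3 ^ num i % 3 : ℕ) : K)) (c : K) := by
  have h2 : (2 : K) = -1 := by simpa using two_eq (K := K)
  ext i j
  have hi := num_lt i; have hj := num_lt j
  simp only [m3, tcode, Matrix.of_apply, e_map _ hi hj,
    show (4 * num i + num j) / 4 = num i by omega, show (4 * num i + num j) % 4 = num j by omega,
    cast_mod]
  rcases i with i | i <;> rcases j with j | j <;> fin_cases i <;> fin_cases j <;>
    simp [num, Cfsg.sympTransvection, Matrix.vecMulVec, Matrix.mulVec, dotProduct, Matrix.J,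
      Fintype.sum_sum_type, Matrix.one_apply, cast_mod, h2]

end Three

section Four

variable (hω : ω ^ 2 + ω + 1 = 0) [CharP F 2]
include hω

theorem d4_add (a b : ℕ) : d4 ω (add4 a b) = d4 ω a + d4 ω b := by
  have h2 : (2 : F) = 0 := CharTwo.two_eq_zero
  have hd : ∀ n, d4 ω n = d4 ω (n % 4) := fun n => by simp [d4]
  rw [hd a, hd b, add4]
  have := Nat.mod_lt a (show 4 > 0 by norm_num)
  have := Nat.mod_lt b (show 4 > 0 by norm_num)
  generalize a % 4 = x at *
  generalize b % 4 = y at *
  interval_cases x <;> interval_cases y <;> simp [d4] <;>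
    first
      | exact h2
      | exact h2.symm
      | ring1
      | linear_combination -h2
      | linear_combination h2
      | linear_combination -ω * h2
      | linear_combination ω * h2
      | linear_combination -(1 + ω) * h2
      | linear_combination (1 + ω) * h2

theorem d4_mul (a b : ℕ) : d4 ω (mul4 a b) = d4 ω a * d4 ω b := by
  have h2 : (2 : F) = 0 := CharTwo.two_eq_zero
  have hd : ∀ n, d4 ω n = d4 ω (n % 4) := fun n => by simp [d4]
  rw [hd a, hd b, mul4]
  have := Nat.mod_lt a (show 4 > 0 by norm_num)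
  have := Nat.mod_lt b (show 4 > 0 by norm_num)
  generalize a % 4 = x at *
  generalize b % 4 = y at *
  interval_cases x <;> interval_cases y <;> simp [d4] <;>
    first
      | linear_combination -hω + (1 + ω) * h2
      | linear_combination -hω + h2
      | linear_combination -hω + ω * h2
      | linear_combination -hω

theorem d4_conj (a : ℕ) : d4 ω (conj4 a) = d4 ω a ^ 2 := by
  have h2 : (2 : F) = 0 := CharTwo.two_eq_zero
  have hd : ∀ n, d4 ω n = d4 ω (n % 4) := fun n => by simp [d4]
  rw [hd a, conj4]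
  have := Nat.mod_lt a (show 4 > 0 by norm_num)
  generalize a % 4 = x at *
  interval_cases x <;> simp [d4] <;>
    first
      | linear_combination -hω + (1 + ω) * h2
      | linear_combination -hω + h2
      | linear_combination -hω + ω * h2
      | linear_combination -hω

theorem m4_mul (A B : List ℕ) : m4 ω (mul4L A B) = m4 ω A * m4 ω B := by
  ext i j
  simp only [m4, mul4L, Matrix.of_apply, Matrix.mul_apply, e_map _ i.2 j.2,
    show (4 * i.val + j.val) / 4 = i.val by omega, show (4 * i.val + j.val) % 4 = j.val by omega,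
    d4_add hω, d4_mul hω, Fin.sum_univ_four]
  rfl

omit hω [CharP F 2] in
theorem m4_tr (A : List ℕ) : m4 ω (trL A) = (m4 ω A)ᵀ := by
  ext i j
  simp only [m4, trL, Matrix.of_apply, Matrix.transpose_apply, e_map _ i.2 j.2,
    show (4 * i.val + j.val) / 4 = i.val by omega, show (4 * i.val + j.val) % 4 = j.val by omega]

theorem m4_conj (A : List ℕ) : m4 ω (conjL A) = (m4 ω A).map (· ^ 2) := by
  ext i j
  simp only [m4, conjL, Matrix.of_apply, Matrix.map_apply, e_map _ i.2 j.2,
    show (4 * i.val + j.val) / 4 = i.val by omega, show (4 * i.val + j.val) % 4 = j.val by omega,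
    d4_conj hω]

omit hω [CharP F 2] in
theorem m4_one : m4 ω oneL = 1 := by
  ext i j
  fin_cases i <;> fin_cases j <;> simp [m4, e, oneL, d4]

theorem m4_det (A : List ℕ) : d4 ω (det4 A) = (m4 ω A).det := by
  rw [Matrix.det_succ_row_zero, Fin.sum_univ_four]
  simp only [Matrix.det_fin_three, Matrix.submatrix_apply]
  simp [det4, d4_add hω, d4_mul hω, m4, Fin.succAbove, CharTwo.sub_eq_add, CharTwo.neg_eq]
  ring

theorem d4_inj {a b : ℕ} (ha : a < 4) (hb : b < 4) (h : d4 ω a = d4 ω b) : a = b := by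
  have h2 : (2 : F) = 0 := CharTwo.two_eq_zero
  have h10 : (1 : F) ≠ 0 := one_ne_zero
  have hω0 : ω ≠ 0 := fun e => by rw [e] at hω; simp at hω
  have hω1 : 1 + ω ≠ 0 := fun e => h10 (by linear_combination hω - ω * e)
  have hω2 : ω ≠ 1 := fun e => by rw [e] at hω; exact h10 (by linear_combination hω - h2)
  interval_cases a <;> interval_cases b <;> simp [d4] at h <;>
    first
      | rfl
      | exact absurd h hω0
      | exact absurd h.symm hω0
      | exact absurd h hω1
      | exact absurd h.symm hω1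
      | exact absurd h hω2
      | exact absurd h.symm hω2

omit hω in
theorem preserves {A : Matrix (Fin 4) (Fin 4) F} (h : Aᵀ * A.map (· ^ 2) = 1) (u v : Fin 4 → F) :
    Cfsg.hermForm 4 F 2 (A *ᵥ u) (A *ᵥ v) = Cfsg.hermForm 4 F 2 u v := by
  haveI : Fact (Nat.Prime 2) := ⟨Nat.prime_two⟩
  have hform : ∀ a b : Fin 4 → F, Cfsg.hermForm 4 F 2 a b = a ⬝ᵥ (frobenius F 2 ∘ b) := fun a b => rfl
  rw [hform, hform]
  have h2 : frobenius F 2 ∘ (A *ᵥ v) = A.map (frobenius F 2) *ᵥ (frobenius F 2 ∘ v) := by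
    funext i
    exact (frobenius F 2).map_mulVec _ v i
  rw [h2, Matrix.dotProduct_mulVec, ← Matrix.mulVec_transpose, Matrix.mulVec_mulVec]
  have h3 : (A.map (frobenius F 2))ᵀ * A = 1 := by
    have := congrArg Matrix.transpose h
    rw [Matrix.transpose_mul, Matrix.transpose_transpose, Matrix.transpose_one] at this
    exact this
  rw [h3, Matrix.one_mulVec]

end Four

set_option maxHeartbeats 1600000 in
theorem main [Fintype K] [Fintype F] (hK : Fintype.card K = 3) (hF : Fintype.card F = 4) :
    Nonempty (Cfsg.PSU 4 F 2 ≃* Cfsg.PSp 2 K) := by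
  classical
  haveI : Fact (Nat.Prime 2) := ⟨Nat.prime_two⟩
  haveI : Fact (Nat.Prime 3) := ⟨Nat.prime_three⟩
  haveI : CharP F 2 := charP_of_card_eq_prime_pow (f := 2) (by rw [hF]; norm_num)
  haveI : CharP K 3 := charP_of_card_eq_prime_pow (f := 1) (by rw [hK]; norm_num)
  obtain ⟨ω, hω0, hω1⟩ : ∃ x : F, x ≠ 0 ∧ x ≠ 1 := by
    by_contra h
    push Not at h
    have h' : Fintype.card F ≤ ({0, 1} : Finset F).card := Finset.card_le_card (s := Finset.univ) fun x _ => by
      rcases eq_or_ne x 0 with rfl | hx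
      · simp
      · simp [h x hx]
    have := Finset.card_le_two (a := (0 : F)) (b := 1)
    omega
  have hω : ω ^ 2 + ω + 1 = 0 := by
    have h4 : ω ^ 4 = ω := by have := FiniteField.pow_card ω; rwa [hF] at this
    have : ω * (ω - 1) * (ω ^ 2 + ω + 1) = 0 := by linear_combination h4
    exact (mul_eq_zero.mp this).resolve_left (mul_ne_zero hω0 (sub_ne_zero.mpr hω1))
  let val : Pair → Matrix I2 I2 K × Matrix (Fin 4) (Fin 4) F := fun A => (m3 A.1, m4 ω A.2)
  have hval : ∀ A B, val (mulP A B) = val A * val B := fun A B => Prod.ext (m3_mul _ _) (m4_mul hω _ _)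
  have hval1 : val (oneL, oneL) = 1 := Prod.ext m3_one m4_one
  have hg : ∀ k : Fin 3, (m3 (gen k).1 * Matrix.J (Fin 2) K * (m3 (gen k).1)ᵀ = Matrix.J (Fin 2) K) ∧
      ((m4 ω (gen k).2)ᵀ * (m4 ω (gen k).2).map (· ^ 2) = 1) ∧ (m4 ω (gen k).2).det = 1 := by
    intro k
    have h := List.all_eq_true.mp gen_ok k.val (List.mem_range.mpr k.2)
    simp only [Bool.and_eq_true, beq_iff_eq] at h
    obtain ⟨⟨h1, h2⟩, h3⟩ := h
    refine ⟨?_, ?_, ?_⟩
    · rw [← m3_J, ← m3_tr, ← m3_mul, ← m3_mul, h1]
    · rw [← m4_tr, ← m4_conj hω, ← m4_mul hω, h2, m4_one]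
    · rw [← m4_det hω, h3]; simp [d4]
  let su : Fin 3 → Cfsg.SU 4 F 2 := fun k => ⟨⟨m4 ω (gen k).2, (hg k).2.2⟩, preserves (hg k).2.1⟩
  let sp : Fin 3 → Matrix.symplecticGroup (Fin 2) K := fun k =>
    ⟨m3 (gen k).1, SymplecticGroup.mem_iff.mpr (hg k).1⟩
  let pp : Fin 3 → Matrix.symplecticGroup (Fin 2) K × Cfsg.SU 4 F 2 := fun k => (sp k, su k)
  let ι : Matrix.symplecticGroup (Fin 2) K × Cfsg.SU 4 F 2 →* Matrix I2 I2 K × Matrix (Fin 4) (Fin 4) F :=
    { toFun := fun p => (p.1.1, p.2.1.1)
      map_one' := rfl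
      map_mul' := fun p q => rfl }
  have hιinj : Function.Injective ι := fun p q h =>
    Prod.ext (Subtype.ext (congrArg Prod.fst h)) (Subtype.ext (Subtype.ext (congrArg Prod.snd h)))
  set S := Subgroup.closure (Set.range pp) with hS
  obtain ⟨hu0, ht0, hus, hts, hsize⟩ := first_ok
  have hustep : ∀ k < 2, ∀ u < uSize, ∃ v < uSize,
      (uStep.getD k []).getD u 0 = v ∧ val (gen k) * val (um u) = val (um v) := by
    intro k hk u hu
    have h := List.all_eq_true.mp (List.all_eq_true.mp ustep_ok k (List.mem_range.mpr hk)) u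
      (List.mem_range.mpr hu)
    simp only [Bool.and_eq_true, beq_iff_eq, Nat.blt_eq] at h
    exact ⟨_, h.1, rfl, by rw [← hval, h.2]⟩
  have humul : ∀ u < uSize, ∀ u' < uSize, ∃ v < uSize, val (um u) * val (um u') = val (um v) := by
    intro u
    induction u using Nat.strong_induction_on with
    | _ u ih =>
      intro hu u' hu'
      have h := List.all_eq_true.mp upar_ok u (List.mem_range.mpr hu)
      simp only [Bool.or_eq_true, beq_iff_eq, Bool.and_eq_true, Nat.blt_eq] at h
      rcases h with rfl | ⟨⟨hk, hlt⟩, he⟩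
      · exact ⟨u', hu', by rw [hu0, hval1, one_mul]⟩
      · obtain ⟨v, hv, e⟩ := ih _ hlt (by omega) u' hu'
        obtain ⟨w, hw, hw', e'⟩ := hustep _ hk _ (show (uParent.getD u (0, 0)).2 < uSize by omega)
        rw [he] at hw'
        subst hw'
        obtain ⟨x, hx, -, e''⟩ := hustep _ hk _ hv
        exact ⟨x, hx, by rw [← e', mul_assoc, e, e'']⟩
  let NF : Matrix.symplecticGroup (Fin 2) K × Cfsg.SU 4 F 2 → Prop := fun p =>
    ∃ i < tSize, ∃ u < uSize, ι p = val (tm i) * val (um u)
  have hin : ∀ p ∈ S, NF p := by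
    intro p hp
    rw [hS, ← Subgroup.mem_toSubmonoid, Subgroup.closure_toSubmonoid_of_finite] at hp
    induction hp using Submonoid.closure_induction_left with
    | one => exact ⟨0, hts, 0, hus, by rw [map_one, ht0, hu0, hval1, one_mul]⟩
    | mul_left x hx y _ ih =>
      obtain ⟨k, rfl⟩ := hx
      obtain ⟨i, hi, u, hu, hy⟩ := ih
      have h := List.all_eq_true.mp (List.all_eq_true.mp tstep_ok k.val (List.mem_range.mpr k.2)) i
        (List.mem_range.mpr hi)
      simp only [Bool.and_eq_true, beq_iff_eq, Nat.blt_eq] at h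
      obtain ⟨⟨h1, h2⟩, he⟩ := h
      obtain ⟨v, hv, e⟩ := humul _ h2 u hu
      refine ⟨_, h1, v, hv, ?_⟩
      have he' := congrArg val he
      rw [hval, hval] at he'
      rw [map_mul, hy, show ι (pp k) = val (gen k) from rfl, ← mul_assoc, he', mul_assoc, e]
  choose nI hnI nU hnU hE using fun p : S => hin _ p.2
  have hSle : Nat.card S ≤ 51840 := by
    let f : S → Fin tSize × Fin uSize := fun p => (⟨nI p, hnI p⟩, ⟨nU p, hnU p⟩)
    have hf : Function.Injective f := by
      intro p q h
      refine Subtype.ext (hιinj ?_)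
      simp only [f, Prod.mk.injEq, Fin.mk.injEq] at h
      rw [hE p, hE q, h.1, h.2]
    have := Nat.card_le_card_of_injective f hf
    rw [Nat.card_prod, Nat.card_fin, Nat.card_fin, mul_comm, hsize] at this
    exact this
  let f1 : S →* Matrix.symplecticGroup (Fin 2) K := (MonoidHom.fst _ _).comp S.subtype
  let f2 : S →* Cfsg.SU 4 F 2 := (MonoidHom.snd _ _).comp S.subtype
  have hureach : ∀ u < uSize, ∃ p ∈ S, ι p = val (um u) := by
    intro u
    induction u using Nat.strong_induction_on with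
    | _ u ih =>
      intro hu
      have h := List.all_eq_true.mp upar_ok u (List.mem_range.mpr hu)
      simp only [Bool.or_eq_true, beq_iff_eq, Bool.and_eq_true, Nat.blt_eq] at h
      rcases h with rfl | ⟨⟨hk, hlt⟩, he⟩
      · exact ⟨1, one_mem _, by rw [map_one, hu0, hval1]⟩
      · obtain ⟨p, hp, e⟩ := ih _ hlt (by omega)
        obtain ⟨w, hw, hw', e'⟩ := hustep _ hk _ (show (uParent.getD u (0, 0)).2 < uSize by omega)
        rw [he] at hw'
        subst hw'
        exact ⟨pp ⟨_, lt_trans hk (by norm_num)⟩ * p, mul_mem (Subgroup.subset_closure ⟨_, rfl⟩) hp,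
          by rw [map_mul, e]; exact e'⟩
  have htreach : ∀ i < tSize, ∃ p ∈ S, ι p = val (tm i) := by
    intro i
    induction i using Nat.strong_induction_on with
    | _ i ih =>
      intro hi
      have h := List.all_eq_true.mp tpar_ok i (List.mem_range.mpr hi)
      simp only [Bool.or_eq_true, beq_iff_eq, Bool.and_eq_true, Nat.blt_eq] at h
      rcases h with rfl | ⟨⟨hk, hlt⟩, he⟩
      · exact ⟨1, one_mem _, by rw [map_one, ht0, hval1]⟩
      · obtain ⟨p, hp, e⟩ := ih _ hlt (by omega)
        have h := List.all_eq_true.mp (List.all_eq_true.mp tstep_ok _ (List.mem_range.mpr hk))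
          (tParent.getD i (0, 0)).2 (List.mem_range.mpr (lt_trans hlt hi))
        simp only [Bool.and_eq_true, beq_iff_eq, Nat.blt_eq] at h
        obtain ⟨⟨-, h2⟩, he'⟩ := h
        obtain ⟨q, hq, eq⟩ := hureach _ h2
        rw [he] at he'
        refine ⟨pp ⟨_, hk⟩ * p * q⁻¹,
          mul_mem (mul_mem (Subgroup.subset_closure ⟨_, rfl⟩) hp) (inv_mem hq), ?_⟩
        have he'' := congrArg val he'
        rw [hval, hval] at he''
        rw [map_mul, map_mul, e, show ι (pp ⟨_, hk⟩) = val (gen (tParent.getD i (0, 0)).1) from rfl,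
          he'', ← eq, mul_assoc, ← map_mul, mul_inv_cancel, map_one, mul_one]
  have hsurjK : ∀ x : K, ∃ a < 3, ((a : ℕ) : K) = x := by
    have hinj : Function.Injective (fun a : Fin 3 => ((a : ℕ) : K)) := fun a b h => by
      rw [CharP.natCast_eq_natCast K 3] at h
      exact Fin.ext (by have := a.2; have := b.2; unfold Nat.ModEq at h; omega)
    have hb := (Fintype.bijective_iff_injective_and_card _).mpr ⟨hinj, by simp [hK]⟩
    intro x
    obtain ⟨a, ha⟩ := hb.2 x
    exact ⟨a, a.2, ha⟩
  have hf1 : Function.Surjective f1 := by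
    rw [← MonoidHom.range_eq_top, eq_top_iff, ← Cfsg.Agent.S0765.result 2, Subgroup.closure_le]
    rintro A ⟨w, c, hA⟩
    obtain ⟨c', hc', rfl⟩ := hsurjK c
    choose a ha hav using fun i => hsurjK (w i)
    let n := a (.inl 0) + 3 * a (.inl 1) + 9 * a (.inr 0) + 27 * a (.inr 1)
    have hn : n < 81 := by
      have := ha (.inl 0); have := ha (.inl 1); have := ha (.inr 0); have := ha (.inr 1)
      simp only [n]; omega
    have hw : w = fun i => ((n / 3 ^ num i % 3 : ℕ) : K) := by
      funext i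
      rw [← hav i]
      congr 1
      have := ha (.inl 0); have := ha (.inl 1); have := ha (.inr 0); have := ha (.inr 1)
      rcases i with i | i <;> fin_cases i <;> simp [num, n] <;> omega
    rcases Nat.eq_zero_or_pos c' with rfl | hpos
    · refine ⟨1, ?_⟩
      rw [map_one]
      refine Subtype.ext ?_
      rw [hA]
      simp [Cfsg.sympTransvection]
    · have h := List.all_eq_true.mp (List.all_eq_true.mp witness_ok n (List.mem_range.mpr hn)) (c' - 1)
        (List.mem_range.mpr (by omega))
      simp only [Bool.and_eq_true, beq_iff_eq, Nat.blt_eq] at h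
      obtain ⟨⟨h1, h2⟩, he⟩ := h
      rw [show c' - 1 + 1 = c' by omega] at he
      obtain ⟨p, hp, ep⟩ := htreach _ h1
      obtain ⟨q, hq, eq⟩ := hureach _ h2
      refine ⟨⟨p * q, mul_mem hp hq⟩, Subtype.ext ?_⟩
      have := congrArg Prod.fst (show ι (p * q) = _ by rw [map_mul, ep, eq])
      refine this.trans ?_
      show m3 _ * m3 _ = _
      rw [← m3_mul, he, m3_tcode, hA, hw]
  have hSp : Nat.card (Matrix.symplecticGroup (Fin 2) K) = 51840 := by
    rw [Cfsg.Agent.S0245.result hK 2]
    decide +kernel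
  have hf1bij : Function.Bijective f1 :=
    (Nat.bijective_iff_surjective_and_card f1).mpr
      ⟨hf1, le_antisymm (by rw [hSp]; exact hSle) (Nat.card_le_card_of_surjective f1 hf1)⟩
  let φ : Matrix.symplecticGroup (Fin 2) K →* Cfsg.SU 4 F 2 :=
    f2.comp (MulEquiv.ofBijective f1 hf1bij).symm.toMonoidHom
  have hφ : ∀ k, φ (sp k) = su k := fun k => by
    have h : (MulEquiv.ofBijective f1 hf1bij).symm (sp k) = ⟨pp k, Subgroup.subset_closure ⟨k, rfl⟩⟩ :=
      (MulEquiv.symm_apply_eq _).mpr rfl
    show f2 ((MulEquiv.ofBijective f1 hf1bij).symm (sp k)) = _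
    rw [h]
    rfl
  have hne : su 0 * su 1 ≠ su 1 * su 0 := by
    intro h
    have h' := congrArg (fun g : Cfsg.SU 4 F 2 => (g.1.1 : Matrix (Fin 4) (Fin 4) F)) h
    change m4 ω (gen 0).2 * m4 ω (gen 1).2 = m4 ω (gen 1).2 * m4 ω (gen 0).2 at h'
    rw [← m4_mul hω, ← m4_mul hω] at h'
    have hlen : ∀ A B : List ℕ, (mul4L A B).length = 16 := fun A B => by simp [mul4L]
    have hlt : ∀ A B : List ℕ, ∀ i < 4, ∀ j < 4, e (mul4L A B) i j < 4 := fun A B i hi j hj => by
      rw [mul4L, e_map _ hi hj]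
      exact Nat.xor_lt_two_pow (n := 2) (Nat.mod_lt _ (by norm_num)) (Nat.mod_lt _ (by norm_num))
    have heq : mul4L (gen 0).2 (gen 1).2 = mul4L (gen 1).2 (gen 0).2 := by
      refine List.ext_getElem (by rw [hlen, hlen]) fun k hk hk' => ?_
      rw [hlen] at hk
      have := d4_inj hω (hlt _ _ _ (show k / 4 < 4 by omega) _ (Nat.mod_lt k (by norm_num)))
        (hlt _ _ _ (show k / 4 < 4 by omega) _ (Nat.mod_lt k (by norm_num)))
        (congrFun (congrFun h' ⟨k / 4, by omega⟩) ⟨k % 4, Nat.mod_lt k (by norm_num)⟩)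
      simpa [e, List.getD_eq_getElem?_getD, show 4 * (k / 4) + k % 4 = k by omega,
        List.getElem?_eq_getElem (show k < (mul4L (gen 0).2 (gen 1).2).length by rw [hlen]; exact hk),
        List.getElem?_eq_getElem (show k < (mul4L (gen 1).2 (gen 0).2).length by rw [hlen]; exact hk)] using this
    have h0 := noncomm_ok
    rw [heq] at h0
    simp at h0
  set Z := Subgroup.center (Matrix.symplecticGroup (Fin 2) K) with hZdef
  have hZ : Nat.card Z = 2 := by
    have := CfsgLib.SympTransvection.card_center (F := K) (m := 2) (by norm_num)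
    rw [this, hK]; rfl
  haveI hsimple : IsSimpleGroup (Cfsg.PSp 2 K) := Cfsg.Agent.S0270.result 2 le_rfl (fun _ => by omega)
  have hker : φ.ker ≤ Z := by
    haveI : (φ.ker.map (QuotientGroup.mk' Z)).Normal :=
      Subgroup.Normal.map φ.normal_ker _ (QuotientGroup.mk'_surjective Z)
    rcases Subgroup.Normal.eq_bot_or_eq_top (inferInstance : (φ.ker.map (QuotientGroup.mk' Z)).Normal)
      with hb | ht
    · rwa [Subgroup.map_eq_bot_iff, QuotientGroup.ker_mk'] at hb
    · exfalso
      have hdec : ∀ x, ∃ z ∈ Z, φ x = φ z := by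
        intro x
        obtain ⟨y, hy, hxy⟩ : QuotientGroup.mk' Z x ∈ φ.ker.map (QuotientGroup.mk' Z) := ht ▸ Subgroup.mem_top _
        obtain ⟨z, hz, rfl⟩ := (QuotientGroup.mk'_eq_mk' Z).mp hxy
        exact ⟨z, hz, by rw [map_mul, MonoidHom.mem_ker.mp hy, one_mul]⟩
      obtain ⟨z, hz, e0⟩ := hdec (sp 0)
      refine hne ?_
      rw [← hφ 0, ← hφ 1, e0, ← map_mul, ← map_mul, Subgroup.mem_center_iff.mp hz]
  have hSU0 : Subgroup.center (Cfsg.SU 4 F 2) = ⊥ := by
    rw [← Subgroup.card_eq_one, Cfsg.Agent.S0280.center_card (q := 2) (by rw [hF]; norm_num) 4 (by norm_num)]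
    rfl
  have hPSU : Nat.card (Cfsg.PSU 4 F 2) = 25920 := by
    have h := Cfsg.Agent.S0280.result (F := F) (q := 2) (by rw [hF]; norm_num) 4 (by norm_num)
    rw [show (∏ i ∈ Finset.range 4, if Even i then (2 : ℕ) ^ (i + 1) + 1 else 2 ^ (i + 1) - 1) = 1215 by
      decide +kernel, show Nat.gcd 4 (2 + 1) = 1 from rfl] at h
    norm_num at h ⊢
    omega
  let e0 : Cfsg.PSU 4 F 2 ≃* Cfsg.SU 4 F 2 :=
    (QuotientGroup.quotientMulEquivOfEq hSU0).trans QuotientGroup.quotientBot
  have hSU : Nat.card (Cfsg.SU 4 F 2) = 25920 := by rw [← Nat.card_congr e0.toEquiv, hPSU]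
  have hkerZ : φ.ker = Z := by
    refine Subgroup.eq_of_le_of_card_ge hker ?_
    rw [hZ]
    have h := Subgroup.card_eq_card_quotient_mul_card_subgroup φ.ker
    rw [hSp, Nat.card_congr (QuotientGroup.quotientKerEquivRange φ).toEquiv] at h
    have h' := Subgroup.card_le_card_group φ.range
    rw [hSU] at h'
    nlinarith
  have hφs : Function.Surjective φ := by
    rw [← MonoidHom.range_eq_top]
    refine Subgroup.eq_top_of_le_card _ ?_
    have h := Subgroup.card_eq_card_quotient_mul_card_subgroup φ.ker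
    rw [hSp, Nat.card_congr (QuotientGroup.quotientKerEquivRange φ).toEquiv, hkerZ, hZ] at h
    rw [hSU]
    omega
  exact ⟨e0.trans ((QuotientGroup.quotientKerEquivOfSurjective φ hφs).symm.trans
    (QuotientGroup.quotientMulEquivOfEq hkerZ))⟩

end CfsgLib.U42
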