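import Cfsg.Agent.Lib.U42.Data

/-!
Kernel checks for `PSp₄(3) ≅ U₄(2)`.
-/

set_option autoImplicit false
set_option Elab.async false
set_option maxRecDepth 100000

namespace CfsgLib.U42

/-- Multiplication of the field with four elements. -/
def mul4 (a b : ℕ) : ℕ := [0, 0, 0, 0, 0, 1, 2, 3, 0, 2, 3, 1, 0, 3, 1, 2].getD (4 * (a % 4) + b % 4) 0

/-- Addition of the field with four elements. -/
def add4 (a b : ℕ) : ℕ := (a % 4) ^^^ (b % 4)

/-- The conjugate in the field with four elements. -/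
def conj4 (a : ℕ) : ℕ := [0, 1, 3, 2].getD (a % 4) 0

def e (A : List ℕ) (i j : ℕ) : ℕ := A.getD (4 * i + j) 0

def mul3L (A B : List ℕ) : List ℕ :=
  (List.range 16).map fun k => let i := k / 4; let j := k % 4
    (e A i 0 * e B 0 j + e A i 1 * e B 1 j + e A i 2 * e B 2 j + e A i 3 * e B 3 j) % 3

def mul4L (A B : List ℕ) : List ℕ :=
  (List.range 16).map fun k => let i := k / 4; let j := k % 4
    add4 (add4 (add4 (mul4 (e A i 0) (e B 0 j)) (mul4 (e A i 1) (e B 1 j))) (mul4 (e A i 2) (e B 2 j)))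
      (mul4 (e A i 3) (e B 3 j))

def trL (A : List ℕ) : List ℕ := (List.range 16).map fun k => e A (k % 4) (k / 4)

def conjL (A : List ℕ) : List ℕ := (List.range 16).map fun k => conj4 (e A (k / 4) (k % 4))

def oneL : List ℕ := [1, 0, 0, 0, 0, 1, 0, 0, 0, 0, 1, 0, 0, 0, 0, 1]

def jL : List ℕ := [0, 0, 2, 0, 0, 0, 0, 2, 1, 0, 0, 0, 0, 1, 0, 0]

/-- Determinant over four elements, by the first row. -/
def det4 (A : List ℕ) : ℕ :=
  let m := fun a b c => -- the minor on rows 1, 2, 3 and columns a, b, c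
    add4 (add4 (mul4 (e A 1 a) (add4 (mul4 (e A 2 b) (e A 3 c)) (mul4 (e A 2 c) (e A 3 b))))
      (mul4 (e A 1 b) (add4 (mul4 (e A 2 a) (e A 3 c)) (mul4 (e A 2 c) (e A 3 a)))))
      (mul4 (e A 1 c) (add4 (mul4 (e A 2 a) (e A 3 b)) (mul4 (e A 2 b) (e A 3 a))))
  add4 (add4 (add4 (mul4 (e A 0 0) (m 1 2 3)) (mul4 (e A 0 1) (m 0 2 3))) (mul4 (e A 0 2) (m 0 1 3)))
    (mul4 (e A 0 3) (m 0 1 2))

abbrev Pair := List ℕ × List ℕ

def mulP (A B : Pair) : Pair := (mul3L A.1 B.1, mul4L A.2 B.2)

def gen (k : ℕ) : Pair := genData.getD k (oneL, oneL)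
def um (u : ℕ) : Pair := uData.getD u (oneL, oneL)
def tm (p : ℕ) : Pair := tData.getD p (oneL, oneL)

/-- The code of a transvection. -/
def tcode (n c : ℕ) : List ℕ :=
  let v := fun i => n / 3 ^ i % 3
  let jv := fun j => [2 * v 2, 2 * v 3, v 0, v 1].getD j 0
  (List.range 16).map fun k =>
    ((if k / 4 = k % 4 then 1 else 0) + c * (v (k / 4) * jv (k % 4))) % 3

theorem first_ok : um 0 = (oneL, oneL) ∧ tm 0 = (oneL, oneL) ∧ 0 < uSize ∧ 0 < tSize ∧
    uSize * tSize = 51840 := by decide +kernel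

theorem gen_ok : ((List.range 3).all fun k =>
    mul3L (mul3L (gen k).1 jL) (trL (gen k).1) == jL &&
      mul4L (trL (gen k).2) (conjL (gen k).2) == oneL && det4 (gen k).2 == 1) = true := by decide +kernel

theorem ustep_ok : ((List.range 2).all fun k => (List.range uSize).all fun u =>
    let v := (uStep.getD k []).getD u 0
    Nat.blt v uSize && mulP (gen k) (um u) == um v) = true := by decide +kernel

theorem upar_ok : ((List.range uSize).all fun u => u == 0 ||
    (let q := uParent.getD u (0, 0)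
     Nat.blt q.1 2 && Nat.blt q.2 u && (uStep.getD q.1 []).getD q.2 0 == u)) = true := by decide +kernel

theorem tstep_ok : ((List.range 3).all fun k => (List.range tSize).all fun p =>
    let q := (tStep.getD k []).getD p (0, 0)
    Nat.blt q.1 tSize && Nat.blt q.2 uSize && mulP (gen k) (tm p) == mulP (tm q.1) (um q.2)) = true := by
  decide +kernel

theorem tpar_ok : ((List.range tSize).all fun p => p == 0 ||
    (let q := tParent.getD p (0, 0)
     Nat.blt q.1 3 && Nat.blt q.2 p && ((tStep.getD q.1 []).getD q.2 (0, 0)).1 == p)) = true := by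
  decide +kernel

theorem witness_ok : ((List.range 81).all fun n => (List.range 2).all fun c =>
    let q := witness.getD (2 * n + c) (0, 0)
    Nat.blt q.1 tSize && Nat.blt q.2 uSize && mul3L (tm q.1).1 (um q.2).1 == tcode n (c + 1)) = true := by
  decide +kernel

theorem noncomm_ok : (mul4L (gen 0).2 (gen 1).2 == mul4L (gen 1).2 (gen 0).2) = false := by
  decide +kernel

end CfsgLib.U42
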