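/-
`PSp₄(3) ≅ U₄(2)`: data. An element is a pair of a symplectic matrix over three elements and a unitary one
over four elements, each the list of its sixteen entries row by row.
-/
import Mathlib

set_option autoImplicit false
set_option maxRecDepth 20000

namespace CfsgLib.U42

/-- Generators, the first two generating the subgroup. -/
def genData : List (List ℕ × List ℕ) :=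
  [([2, 2, 0, 0, 0, 2, 0, 0, 0, 0, 2, 0, 0, 1, 1, 2], [0, 2, 1, 3, 1, 2, 0, 3, 3, 0, 3, 2, 2, 3, 2, 0]),
   ([2, 1, 1, 0, 0, 1, 0, 0, 1, 0, 1, 0, 2, 1, 2, 1], [0, 2, 1, 1, 1, 1, 3, 0, 3, 3, 0, 2, 3, 0, 2, 2]),
   ([2, 0, 1, 0, 2, 0, 1, 1, 1, 1, 1, 2, 2, 2, 1, 2], [2, 0, 1, 3, 1, 3, 3, 0, 3, 2, 0, 1, 0, 1, 1, 3])]

/-- The subgroup. -/
def uData : List (List ℕ × List ℕ) :=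
  [([1, 0, 0, 0, 0, 1, 0, 0, 0, 0, 1, 0, 0, 0, 0, 1], [1, 0, 0, 0, 0, 1, 0, 0, 0, 0, 1, 0, 0, 0, 0, 1]),
   ([2, 2, 0, 0, 0, 2, 0, 0, 0, 0, 2, 0, 0, 1, 1, 2], [0, 2, 1, 3, 1, 2, 0, 3, 3, 0, 3, 2, 2, 3, 2, 0]),
   ([2, 1, 1, 0, 0, 1, 0, 0, 1, 0, 1, 0, 2, 1, 2, 1], [0, 2, 1, 1, 1, 1, 3, 0, 3, 3, 0, 2, 3, 0, 2, 2]),
   ([1, 2, 0, 0, 0, 1, 0, 0, 0, 0, 1, 0, 0, 1, 1, 1], [0, 1, 2, 3, 3, 3, 0, 2, 1, 0, 2, 3, 2, 2, 3, 0]),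
   ([1, 0, 2, 0, 0, 2, 0, 0, 2, 2, 2, 0, 1, 1, 2, 2], [3, 0, 1, 3, 3, 0, 3, 1, 0, 1, 0, 0, 2, 0, 1, 1]),
   ([1, 1, 2, 0, 0, 2, 0, 0, 2, 0, 2, 0, 2, 0, 2, 2], [3, 1, 0, 3, 0, 0, 1, 0, 3, 3, 0, 1, 2, 1, 0, 1]),
   ([2, 0, 0, 0, 0, 1, 0, 0, 0, 1, 2, 0, 2, 1, 0, 1], [2, 1, 3, 0, 3, 1, 2, 0, 2, 2, 2, 0, 0, 0, 0, 3]),
   ([2, 0, 0, 0, 0, 2, 0, 0, 0, 0, 2, 0, 0, 0, 0, 2], [1, 0, 0, 0, 0, 1, 0, 0, 0, 0, 1, 0, 0, 0, 0, 1]),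
   ([2, 2, 1, 0, 0, 1, 0, 0, 1, 2, 1, 0, 2, 0, 0, 1], [2, 3, 1, 0, 0, 2, 3, 3, 1, 2, 0, 3, 1, 0, 3, 3]),
   ([2, 1, 1, 0, 0, 1, 0, 0, 1, 1, 1, 0, 1, 0, 0, 1], [0, 1, 2, 1, 3, 0, 3, 2, 1, 3, 1, 0, 3, 2, 0, 2]),
   ([1, 1, 0, 0, 0, 2, 0, 0, 0, 2, 1, 0, 1, 1, 1, 2], [3, 1, 0, 3, 0, 3, 2, 2, 3, 0, 3, 3, 1, 2, 1, 0]),
   ([2, 0, 1, 0, 0, 1, 0, 0, 1, 0, 1, 0, 0, 2, 0, 1], [2, 0, 2, 2, 2, 2, 2, 0, 3, 3, 0, 3, 0, 3, 3, 3]),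
   ([1, 1, 0, 0, 0, 2, 0, 0, 0, 1, 1, 0, 2, 1, 1, 2], [1, 2, 2, 0, 1, 3, 1, 0, 1, 1, 3, 0, 0, 0, 0, 2]),
   ([1, 2, 0, 0, 0, 2, 0, 0, 0, 2, 1, 0, 1, 1, 2, 2], [3, 0, 1, 2, 3, 3, 0, 2, 0, 2, 3, 1, 2, 2, 3, 0]),
   ([1, 2, 2, 0, 0, 1, 0, 0, 2, 1, 2, 0, 0, 1, 1, 1], [3, 0, 1, 3, 0, 1, 0, 0, 3, 0, 3, 1, 2, 0, 1, 1]),
   ([1, 1, 0, 0, 0, 1, 0, 0, 0, 0, 1, 0, 0, 2, 2, 1], [0, 2, 1, 3, 1, 2, 0, 3, 3, 0, 3, 2, 2, 3, 2, 0]),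
   ([1, 2, 2, 0, 0, 2, 0, 0, 2, 0, 2, 0, 1, 2, 1, 2], [0, 2, 1, 1, 1, 1, 3, 0, 3, 3, 0, 2, 3, 0, 2, 2]),
   ([1, 0, 2, 0, 0, 2, 0, 0, 2, 1, 2, 0, 2, 0, 1, 2], [2, 1, 3, 0, 1, 0, 2, 3, 0, 3, 2, 3, 1, 3, 0, 3]),
   ([2, 1, 0, 0, 0, 1, 0, 0, 0, 1, 2, 0, 2, 0, 1, 1], [0, 1, 2, 1, 1, 0, 2, 1, 3, 3, 0, 3, 1, 1, 2, 0]),
   ([1, 1, 2, 0, 0, 2, 0, 0, 2, 2, 2, 0, 0, 2, 1, 2], [2, 2, 0, 2, 3, 0, 3, 3, 2, 2, 2, 0, 0, 3, 3, 3]),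
   ([2, 1, 0, 0, 0, 1, 0, 0, 0, 2, 2, 0, 1, 2, 1, 1], [3, 1, 0, 1, 0, 3, 2, 3, 3, 0, 3, 1, 3, 1, 3, 0]),
   ([2, 0, 0, 0, 0, 1, 0, 0, 0, 1, 2, 0, 2, 0, 0, 1], [0, 0, 3, 0, 0, 1, 0, 0, 2, 0, 0, 0, 0, 0, 0, 1]),
   ([2, 0, 1, 0, 0, 2, 0, 0, 1, 0, 1, 0, 0, 0, 0, 2], [2, 3, 1, 0, 1, 2, 0, 3, 0, 2, 3, 3, 1, 0, 3, 3]),
   ([2, 1, 0, 0, 0, 1, 0, 0, 0, 0, 2, 0, 0, 0, 1, 1], [0, 3, 0, 0, 2, 0, 0, 0, 0, 0, 1, 0, 0, 0, 0, 1]),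
   ([2, 0, 0, 0, 0, 1, 0, 0, 0, 2, 2, 0, 1, 2, 0, 1], [3, 0, 1, 1, 3, 3, 0, 1, 0, 2, 3, 3, 3, 3, 1, 0]),
   ([2, 2, 1, 0, 0, 2, 0, 0, 1, 2, 1, 0, 1, 1, 0, 2], [3, 0, 1, 2, 3, 2, 1, 0, 0, 3, 2, 3, 1, 3, 0, 3]),
   ([2, 2, 0, 0, 0, 1, 0, 0, 0, 1, 2, 0, 2, 0, 2, 1], [0, 2, 1, 2, 3, 0, 3, 1, 1, 2, 0, 2, 3, 1, 3, 0]),
   ([2, 2, 1, 0, 0, 2, 0, 0, 1, 1, 1, 0, 0, 2, 1, 2], [3, 1, 0, 2, 0, 2, 3, 3, 3, 1, 2, 0, 1, 0, 3, 3]),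
   ([2, 0, 1, 0, 0, 2, 0, 0, 1, 2, 1, 0, 2, 1, 1, 2], [2, 2, 0, 2, 2, 2, 2, 0, 3, 0, 3, 3, 0, 3, 3, 3]),
   ([1, 0, 0, 0, 0, 1, 0, 0, 0, 0, 1, 0, 0, 2, 0, 1], [1, 2, 2, 0, 1, 1, 3, 0, 1, 3, 1, 0, 0, 0, 0, 2]),
   ([2, 1, 0, 0, 0, 2, 0, 0, 0, 0, 2, 0, 0, 2, 2, 2], [0, 1, 2, 3, 3, 3, 0, 2, 1, 0, 2, 3, 2, 2, 3, 0]),
   ([2, 0, 1, 0, 0, 1, 0, 0, 1, 1, 1, 0, 2, 2, 1, 1], [3, 0, 1, 3, 3, 0, 3, 1, 0, 1, 0, 0, 2, 0, 1, 1]),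
   ([2, 2, 1, 0, 0, 1, 0, 0, 1, 0, 1, 0, 1, 0, 1, 1], [3, 1, 0, 3, 0, 0, 1, 0, 3, 3, 0, 1, 2, 1, 0, 1]),
   ([1, 0, 0, 0, 0, 2, 0, 0, 0, 2, 1, 0, 1, 2, 0, 2], [2, 1, 3, 0, 3, 1, 2, 0, 2, 2, 2, 0, 0, 0, 0, 3]),
   ([2, 1, 1, 0, 0, 1, 0, 0, 1, 2, 1, 0, 0, 0, 1, 1], [1, 1, 1, 0, 3, 3, 0, 3, 3, 0, 3, 3, 0, 3, 3, 3]),
   ([1, 0, 0, 0, 0, 2, 0, 0, 0, 1, 1, 0, 2, 1, 0, 2], [3, 0, 1, 1, 3, 3, 0, 1, 0, 2, 3, 3, 3, 3, 1, 0]),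
   ([1, 1, 0, 0, 0, 2, 0, 0, 0, 2, 1, 0, 1, 2, 1, 2], [2, 0, 2, 1, 1, 2, 0, 3, 0, 3, 2, 1, 2, 3, 2, 0]),
   ([1, 1, 2, 0, 0, 1, 0, 0, 2, 2, 2, 0, 0, 2, 2, 1], [0, 2, 1, 1, 3, 3, 0, 2, 1, 1, 3, 0, 3, 0, 2, 2]),
   ([1, 0, 0, 0, 0, 2, 0, 0, 0, 0, 1, 0, 0, 1, 0, 2], [3, 1, 0, 2, 0, 3, 2, 1, 3, 0, 3, 2, 2, 3, 2, 0]),
   ([1, 2, 2, 0, 0, 1, 0, 0, 2, 0, 2, 0, 2, 0, 2, 1], [0, 0, 3, 0, 1, 2, 0, 1, 3, 3, 0, 1, 2, 1, 0, 1]),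
   ([1, 2, 0, 0, 0, 2, 0, 0, 0, 2, 1, 0, 1, 2, 2, 2], [2, 2, 0, 3, 0, 2, 3, 3, 1, 0, 2, 2, 3, 3, 1, 0]),
   ([1, 2, 2, 0, 0, 1, 0, 0, 2, 1, 2, 0, 0, 0, 1, 1], [2, 2, 0, 1, 1, 1, 3, 0, 0, 3, 2, 2, 3, 0, 2, 2]),
   ([1, 1, 2, 0, 0, 1, 0, 0, 2, 0, 2, 0, 1, 2, 1, 1], [1, 1, 1, 0, 3, 0, 3, 3, 3, 3, 0, 3, 0, 3, 3, 3]),
   ([2, 2, 0, 0, 0, 2, 0, 0, 0, 0, 2, 0, 0, 2, 1, 2], [3, 1, 0, 1, 3, 0, 3, 1, 0, 3, 2, 3, 3, 1, 3, 0]),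
   ([1, 1, 0, 0, 0, 2, 0, 0, 0, 0, 1, 0, 0, 1, 1, 2], [3, 0, 1, 3, 3, 3, 0, 3, 0, 2, 3, 2, 1, 1, 2, 0]),
   ([1, 0, 2, 0, 0, 1, 0, 0, 2, 1, 2, 0, 1, 0, 2, 1], [3, 0, 1, 1, 2, 3, 3, 0, 1, 2, 0, 2, 0, 2, 2, 2]),
   ([1, 2, 0, 0, 0, 2, 0, 0, 0, 1, 1, 0, 2, 1, 2, 2], [3, 1, 0, 1, 0, 3, 2, 3, 3, 0, 3, 1, 3, 1, 3, 0]),
   ([1, 0, 2, 0, 0, 1, 0, 0, 2, 2, 2, 0, 2, 1, 1, 1], [2, 0, 2, 1, 0, 2, 3, 2, 1, 3, 1, 0, 3, 2, 0, 2]),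
   ([2, 2, 0, 0, 0, 2, 0, 0, 0, 1, 2, 0, 1, 2, 1, 2], [0, 3, 0, 0, 0, 0, 1, 0, 2, 0, 0, 0, 0, 0, 0, 1]),
   ([1, 0, 2, 0, 0, 1, 0, 0, 2, 0, 2, 0, 0, 1, 0, 1], [3, 3, 2, 0, 0, 3, 2, 2, 3, 3, 0, 2, 3, 0, 2, 2]),
   ([1, 2, 2, 0, 0, 1, 0, 0, 2, 2, 2, 0, 1, 1, 0, 1], [0, 2, 1, 3, 0, 2, 3, 1, 2, 0, 0, 0, 0, 1, 1, 1]),
   ([2, 1, 0, 0, 0, 2, 0, 0, 0, 0, 2, 0, 0, 1, 2, 2], [2, 2, 0, 2, 1, 0, 2, 1, 0, 2, 3, 2, 1, 1, 2, 0]),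
   ([1, 1, 2, 0, 0, 1, 0, 0, 2, 1, 2, 0, 2, 0, 0, 1], [0, 1, 2, 1, 1, 3, 1, 0, 3, 0, 3, 2, 3, 2, 0, 2]),
   ([2, 1, 0, 0, 0, 2, 0, 0, 0, 2, 2, 0, 2, 1, 2, 2], [0, 0, 3, 0, 2, 0, 0, 0, 0, 1, 0, 0, 0, 0, 0, 1]),
   ([2, 1, 1, 0, 0, 1, 0, 0, 1, 0, 1, 0, 2, 0, 2, 1], [3, 1, 0, 2, 3, 1, 2, 0, 0, 2, 3, 3, 1, 0, 3, 3]),
   ([1, 1, 2, 0, 0, 2, 0, 0, 2, 1, 2, 0, 1, 0, 0, 2], [2, 3, 1, 0, 0, 2, 3, 3, 1, 2, 0, 3, 1, 0, 3, 3]),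
   ([1, 2, 2, 0, 0, 2, 0, 0, 2, 2, 2, 0, 2, 0, 0, 2], [0, 1, 2, 1, 3, 0, 3, 2, 1, 3, 1, 0, 3, 2, 0, 2]),
   ([2, 2, 0, 0, 0, 1, 0, 0, 0, 1, 2, 0, 2, 2, 2, 1], [3, 1, 0, 3, 0, 3, 2, 2, 3, 0, 3, 3, 1, 2, 1, 0]),
   ([1, 0, 2, 0, 0, 2, 0, 0, 2, 0, 2, 0, 0, 1, 0, 2], [2, 0, 2, 2, 2, 2, 2, 0, 3, 3, 0, 3, 0, 3, 3, 3]),
   ([2, 2, 0, 0, 0, 1, 0, 0, 0, 2, 2, 0, 1, 2, 2, 1], [1, 2, 2, 0, 1, 3, 1, 0, 1, 1, 3, 0, 0, 0, 0, 2]),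
   ([2, 1, 0, 0, 0, 1, 0, 0, 0, 1, 2, 0, 2, 2, 1, 1], [3, 0, 1, 2, 3, 3, 0, 2, 0, 2, 3, 1, 2, 2, 3, 0]),
   ([2, 1, 1, 0, 0, 2, 0, 0, 1, 2, 1, 0, 0, 2, 2, 2], [3, 0, 1, 3, 0, 1, 0, 0, 3, 0, 3, 1, 2, 0, 1, 1]),
   ([2, 2, 0, 0, 0, 1, 0, 0, 0, 0, 2, 0, 0, 1, 2, 1], [2, 2, 0, 1, 0, 2, 3, 1, 1, 0, 2, 3, 2, 2, 3, 0]),
   ([2, 0, 1, 0, 0, 2, 0, 0, 1, 1, 1, 0, 1, 2, 2, 2], [2, 0, 2, 1, 0, 2, 3, 2, 1, 3, 1, 0, 3, 2, 0, 2]),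
   ([2, 0, 0, 0, 0, 1, 0, 0, 0, 1, 2, 0, 2, 2, 0, 1], [3, 2, 3, 0, 1, 1, 3, 0, 2, 3, 3, 0, 0, 0, 0, 2]),
   ([2, 0, 1, 0, 0, 2, 0, 0, 1, 0, 1, 0, 0, 1, 0, 2], [0, 3, 0, 0, 3, 0, 3, 1, 1, 0, 2, 1, 2, 0, 1, 1]),
   ([2, 1, 1, 0, 0, 2, 0, 0, 1, 1, 1, 0, 2, 1, 0, 2], [2, 0, 2, 2, 3, 3, 0, 3, 2, 2, 2, 0, 0, 3, 3, 3]),
   ([1, 2, 0, 0, 0, 1, 0, 0, 0, 0, 1, 0, 0, 0, 1, 1], [3, 0, 1, 1, 0, 2, 3, 3, 3, 3, 0, 1, 3, 3, 1, 0]),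
   ([2, 1, 0, 0, 0, 1, 0, 0, 0, 0, 2, 0, 0, 1, 1, 1], [2, 3, 1, 0, 2, 2, 2, 0, 3, 2, 1, 0, 0, 0, 0, 3]),
   ([2, 2, 1, 0, 0, 2, 0, 0, 1, 0, 1, 0, 2, 0, 2, 2], [1, 2, 2, 0, 1, 2, 0, 2, 1, 0, 2, 2, 0, 2, 2, 2]),
   ([1, 2, 0, 0, 0, 1, 0, 0, 0, 2, 1, 0, 2, 2, 1, 1], [3, 1, 0, 2, 3, 0, 3, 2, 0, 3, 2, 1, 2, 3, 2, 0]),
   ([2, 2, 1, 0, 0, 2, 0, 0, 1, 1, 1, 0, 0, 0, 1, 2], [2, 0, 2, 3, 1, 0, 2, 1, 0, 1, 0, 0, 2, 0, 1, 1]),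
   ([2, 0, 1, 0, 0, 2, 0, 0, 1, 2, 1, 0, 2, 2, 1, 2], [0, 1, 2, 3, 2, 0, 0, 0, 0, 3, 2, 1, 0, 1, 1, 1]),
   ([1, 0, 0, 0, 0, 1, 0, 0, 0, 0, 1, 0, 0, 1, 0, 1], [1, 1, 1, 0, 3, 1, 2, 0, 3, 2, 1, 0, 0, 0, 0, 3]),
   ([2, 1, 1, 0, 0, 2, 0, 0, 1, 0, 1, 0, 1, 2, 1, 2], [2, 1, 3, 0, 0, 3, 2, 3, 1, 0, 2, 3, 1, 3, 0, 3]),
   ([1, 0, 0, 0, 0, 1, 0, 0, 0, 1, 1, 0, 1, 2, 0, 1], [2, 0, 2, 1, 0, 3, 2, 1, 1, 2, 0, 3, 2, 3, 2, 0]),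
   ([1, 0, 2, 0, 0, 2, 0, 0, 2, 2, 2, 0, 1, 2, 2, 2], [2, 2, 0, 1, 0, 3, 2, 2, 1, 1, 3, 0, 3, 0, 2, 2]),
   ([2, 0, 0, 0, 0, 1, 0, 0, 0, 0, 2, 0, 0, 1, 0, 1], [2, 0, 2, 3, 1, 2, 0, 2, 0, 3, 2, 3, 3, 1, 3, 0]),
   ([2, 1, 1, 0, 0, 2, 0, 0, 1, 1, 1, 0, 2, 2, 0, 2], [0, 2, 1, 3, 0, 2, 3, 1, 2, 0, 0, 0, 0, 1, 1, 1]),
   ([2, 2, 1, 0, 0, 2, 0, 0, 1, 2, 1, 0, 1, 2, 0, 2], [2, 2, 0, 3, 0, 0, 1, 0, 1, 2, 0, 1, 2, 1, 0, 1]),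
   ([1, 2, 0, 0, 0, 1, 0, 0, 0, 1, 1, 0, 1, 0, 1, 1], [2, 1, 3, 0, 2, 2, 2, 0, 3, 1, 2, 0, 0, 0, 0, 3]),
   ([2, 1, 1, 0, 0, 2, 0, 0, 1, 0, 1, 0, 1, 0, 1, 2], [0, 0, 3, 0, 1, 2, 0, 1, 3, 3, 0, 1, 2, 1, 0, 1]),
   ([1, 0, 0, 0, 0, 1, 0, 0, 0, 2, 1, 0, 2, 0, 0, 1], [2, 2, 0, 1, 1, 0, 2, 3, 0, 2, 3, 1, 2, 2, 3, 0]),
   ([1, 2, 0, 0, 0, 1, 0, 0, 0, 2, 1, 0, 2, 1, 1, 1], [2, 0, 2, 3, 0, 3, 2, 3, 1, 2, 0, 2, 3, 1, 3, 0]),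
   ([1, 1, 2, 0, 0, 2, 0, 0, 2, 0, 2, 0, 2, 1, 2, 2], [2, 0, 2, 1, 1, 3, 1, 0, 0, 2, 3, 2, 3, 2, 0, 2]),
   ([1, 1, 0, 0, 0, 1, 0, 0, 0, 1, 1, 0, 1, 1, 2, 1], [2, 2, 0, 3, 1, 0, 2, 2, 0, 2, 3, 3, 3, 3, 1, 0]),
   ([1, 1, 2, 0, 0, 2, 0, 0, 2, 1, 2, 0, 1, 2, 0, 2], [3, 3, 2, 0, 3, 3, 0, 2, 0, 3, 2, 2, 3, 0, 2, 2]),
   ([1, 1, 0, 0, 0, 1, 0, 0, 0, 2, 1, 0, 2, 2, 2, 1], [2, 3, 1, 0, 3, 2, 1, 0, 2, 2, 2, 0, 0, 0, 0, 3]),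
   ([1, 0, 0, 0, 0, 1, 0, 0, 0, 1, 1, 0, 1, 0, 0, 1], [3, 1, 0, 3, 3, 0, 3, 3, 0, 3, 2, 2, 1, 2, 1, 0]),
   ([1, 0, 2, 0, 0, 2, 0, 0, 2, 0, 2, 0, 0, 0, 0, 2], [3, 1, 0, 1, 2, 3, 3, 0, 1, 0, 2, 2, 0, 2, 2, 2]),
   ([2, 0, 1, 0, 0, 1, 0, 0, 1, 2, 1, 0, 1, 0, 2, 1], [2, 1, 3, 0, 1, 0, 2, 3, 0, 3, 2, 3, 1, 3, 0, 3]),
   ([1, 2, 0, 0, 0, 2, 0, 0, 0, 2, 1, 0, 1, 0, 2, 2], [0, 1, 2, 1, 1, 0, 2, 1, 3, 3, 0, 3, 1, 1, 2, 0]),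
   ([2, 2, 1, 0, 0, 1, 0, 0, 1, 1, 1, 0, 0, 1, 2, 1], [2, 2, 0, 2, 3, 0, 3, 3, 2, 2, 2, 0, 0, 3, 3, 3]),
   ([1, 0, 0, 0, 0, 2, 0, 0, 0, 2, 1, 0, 1, 0, 0, 2], [0, 0, 3, 0, 0, 1, 0, 0, 2, 0, 0, 0, 0, 0, 0, 1]),
   ([1, 0, 2, 0, 0, 1, 0, 0, 2, 0, 2, 0, 0, 0, 0, 1], [2, 3, 1, 0, 1, 2, 0, 3, 0, 2, 3, 3, 1, 0, 3, 3]),
   ([1, 2, 0, 0, 0, 2, 0, 0, 0, 0, 1, 0, 0, 0, 2, 2], [0, 3, 0, 0, 2, 0, 0, 0, 0, 0, 1, 0, 0, 0, 0, 1]),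
   ([1, 1, 2, 0, 0, 1, 0, 0, 2, 1, 2, 0, 2, 2, 0, 1], [3, 0, 1, 2, 3, 2, 1, 0, 0, 3, 2, 3, 1, 3, 0, 3]),
   ([1, 1, 0, 0, 0, 2, 0, 0, 0, 2, 1, 0, 1, 0, 1, 2], [0, 2, 1, 2, 3, 0, 3, 1, 1, 2, 0, 2, 3, 1, 3, 0]),
   ([1, 1, 2, 0, 0, 1, 0, 0, 2, 2, 2, 0, 0, 1, 2, 1], [3, 1, 0, 2, 0, 2, 3, 3, 3, 1, 2, 0, 1, 0, 3, 3]),
   ([1, 0, 2, 0, 0, 1, 0, 0, 2, 1, 2, 0, 1, 2, 2, 1], [2, 2, 0, 2, 2, 2, 2, 0, 3, 0, 3, 3, 0, 3, 3, 3]),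
   ([2, 0, 0, 0, 0, 2, 0, 0, 0, 0, 2, 0, 0, 1, 0, 2], [1, 2, 2, 0, 1, 1, 3, 0, 1, 3, 1, 0, 0, 0, 0, 2]),
   ([1, 0, 0, 0, 0, 2, 0, 0, 0, 0, 1, 0, 0, 0, 0, 2], [0, 2, 1, 1, 3, 0, 3, 3, 1, 2, 0, 1, 1, 2, 1, 0]),
   ([1, 2, 2, 0, 0, 1, 0, 0, 2, 2, 2, 0, 1, 0, 0, 1], [3, 1, 0, 1, 1, 0, 2, 2, 2, 3, 3, 0, 0, 2, 2, 2]),
   ([2, 0, 0, 0, 0, 2, 0, 0, 0, 1, 2, 0, 1, 0, 0, 2], [2, 2, 0, 1, 1, 0, 2, 3, 0, 2, 3, 1, 2, 2, 3, 0]),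
   ([1, 2, 2, 0, 0, 1, 0, 0, 2, 1, 2, 0, 0, 2, 1, 1], [0, 1, 2, 2, 3, 1, 2, 0, 1, 2, 0, 3, 1, 0, 3, 3]),
   ([1, 1, 2, 0, 0, 1, 0, 0, 2, 0, 2, 0, 1, 1, 1, 1], [1, 0, 0, 0, 0, 3, 2, 1, 0, 2, 3, 1, 0, 1, 1, 1]),
   ([2, 2, 0, 0, 0, 2, 0, 0, 0, 0, 2, 0, 0, 0, 1, 2], [2, 0, 2, 2, 0, 3, 2, 2, 1, 2, 0, 1, 1, 2, 1, 0]),
   ([1, 0, 2, 0, 0, 1, 0, 0, 2, 2, 2, 0, 2, 2, 1, 1], [3, 1, 0, 3, 3, 3, 0, 1, 0, 0, 1, 0, 2, 1, 0, 1]),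
   ([2, 2, 0, 0, 0, 2, 0, 0, 0, 2, 2, 0, 2, 1, 1, 2], [3, 0, 1, 2, 0, 2, 3, 1, 3, 3, 0, 2, 2, 2, 3, 0]),
   ([2, 2, 1, 0, 0, 1, 0, 0, 1, 2, 1, 0, 2, 2, 0, 1], [0, 3, 0, 0, 1, 0, 2, 1, 3, 0, 3, 1, 2, 0, 1, 1]),
   ([1, 1, 0, 0, 0, 2, 0, 0, 0, 0, 1, 0, 0, 0, 1, 2], [0, 1, 2, 2, 1, 0, 2, 2, 3, 3, 0, 1, 3, 3, 1, 0]),
   ([1, 0, 2, 0, 0, 1, 0, 0, 2, 1, 2, 0, 1, 1, 2, 1], [0, 1, 2, 3, 2, 0, 0, 0, 0, 3, 2, 1, 0, 1, 1, 1]),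
   ([1, 2, 2, 0, 0, 1, 0, 0, 2, 0, 2, 0, 2, 2, 2, 1], [3, 2, 3, 0, 3, 0, 3, 2, 0, 2, 3, 2, 3, 2, 0, 2]),
   ([2, 0, 0, 0, 0, 2, 0, 0, 0, 2, 2, 0, 2, 0, 0, 2], [3, 1, 0, 3, 3, 0, 3, 3, 0, 3, 2, 2, 1, 2, 1, 0]),
   ([2, 0, 0, 0, 0, 2, 0, 0, 0, 1, 2, 0, 1, 1, 0, 2], [0, 1, 2, 2, 3, 3, 0, 1, 1, 0, 2, 2, 3, 3, 1, 0]),
   ([2, 1, 1, 0, 0, 1, 0, 0, 1, 1, 1, 0, 1, 2, 0, 1], [3, 0, 1, 2, 0, 3, 2, 3, 3, 2, 1, 0, 1, 3, 0, 3]),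
   ([2, 1, 0, 0, 0, 2, 0, 0, 0, 2, 2, 0, 2, 2, 2, 2], [3, 2, 3, 0, 2, 3, 3, 0, 1, 1, 3, 0, 0, 0, 0, 2]),
   ([2, 1, 1, 0, 0, 1, 0, 0, 1, 0, 1, 0, 2, 2, 2, 1], [2, 0, 2, 3, 0, 1, 0, 0, 1, 0, 2, 1, 2, 0, 1, 1]),
   ([2, 1, 0, 0, 0, 2, 0, 0, 0, 1, 2, 0, 1, 0, 2, 2], [0, 2, 1, 1, 1, 2, 0, 1, 3, 0, 3, 3, 1, 2, 1, 0]),
   ([2, 2, 0, 0, 0, 2, 0, 0, 0, 2, 2, 0, 2, 0, 1, 2], [0, 1, 2, 1, 3, 3, 0, 3, 1, 0, 2, 1, 1, 1, 2, 0]),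
   ([2, 2, 1, 0, 0, 1, 0, 0, 1, 1, 1, 0, 0, 2, 2, 1], [3, 0, 1, 1, 1, 2, 0, 2, 2, 3, 3, 0, 0, 2, 2, 2]),
   ([2, 2, 0, 0, 0, 2, 0, 0, 0, 2, 2, 0, 2, 2, 1, 2], [2, 2, 0, 3, 1, 0, 2, 2, 0, 2, 3, 3, 3, 3, 1, 0]),
   ([2, 2, 0, 0, 0, 2, 0, 0, 0, 1, 2, 0, 1, 0, 1, 2], [3, 3, 2, 0, 1, 3, 1, 0, 2, 3, 3, 0, 0, 0, 0, 2]),
   ([2, 0, 0, 0, 0, 2, 0, 0, 0, 2, 2, 0, 2, 2, 0, 2], [0, 2, 1, 2, 1, 2, 0, 2, 3, 0, 3, 1, 3, 1, 3, 0]),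
   ([2, 0, 1, 0, 0, 1, 0, 0, 1, 0, 1, 0, 0, 1, 0, 1], [0, 2, 1, 3, 2, 0, 0, 0, 0, 2, 3, 1, 0, 1, 1, 1]),
   ([1, 0, 2, 0, 0, 1, 0, 0, 2, 0, 2, 0, 0, 2, 0, 1], [0, 3, 0, 0, 3, 0, 3, 1, 1, 0, 2, 1, 2, 0, 1, 1]),
   ([2, 1, 0, 0, 0, 2, 0, 0, 0, 1, 2, 0, 1, 1, 2, 2], [3, 1, 0, 2, 3, 0, 3, 2, 0, 3, 2, 1, 2, 3, 2, 0]),
   ([2, 0, 1, 0, 0, 1, 0, 0, 1, 2, 1, 0, 1, 2, 2, 1], [0, 0, 3, 0, 3, 3, 0, 1, 1, 2, 0, 1, 2, 1, 0, 1]),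
   ([2, 0, 0, 0, 0, 2, 0, 0, 0, 1, 2, 0, 1, 2, 0, 2], [3, 0, 1, 3, 0, 2, 3, 2, 3, 3, 0, 3, 1, 1, 2, 0]),
   ([2, 1, 1, 0, 0, 1, 0, 0, 1, 1, 1, 0, 1, 1, 0, 1], [2, 2, 0, 3, 1, 2, 0, 1, 0, 0, 1, 0, 2, 1, 0, 1]),
   ([1, 1, 0, 0, 0, 2, 0, 0, 0, 1, 1, 0, 2, 2, 1, 2], [1, 1, 1, 0, 3, 2, 1, 0, 3, 1, 2, 0, 0, 0, 0, 3]),
   ([2, 0, 1, 0, 0, 1, 0, 0, 1, 2, 1, 0, 1, 1, 2, 1], [3, 2, 3, 0, 0, 2, 3, 2, 3, 0, 3, 2, 3, 2, 0, 2]),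
   ([2, 2, 1, 0, 0, 1, 0, 0, 1, 1, 1, 0, 0, 0, 2, 1], [0, 1, 2, 3, 0, 3, 2, 1, 2, 0, 0, 0, 0, 1, 1, 1]),
   ([1, 2, 0, 0, 0, 2, 0, 0, 0, 0, 1, 0, 0, 2, 2, 2], [2, 3, 1, 0, 2, 2, 2, 0, 3, 2, 1, 0, 0, 0, 0, 3]),
   ([1, 2, 2, 0, 0, 2, 0, 0, 2, 1, 2, 0, 0, 0, 2, 2], [1, 1, 1, 0, 3, 3, 0, 3, 3, 0, 3, 3, 0, 3, 3, 3]),
   ([2, 2, 0, 0, 0, 1, 0, 0, 0, 1, 2, 0, 2, 1, 2, 1], [2, 0, 2, 1, 1, 2, 0, 3, 0, 3, 2, 1, 2, 3, 2, 0]),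
   ([2, 2, 1, 0, 0, 2, 0, 0, 1, 1, 1, 0, 0, 1, 1, 2], [0, 2, 1, 1, 3, 3, 0, 2, 1, 1, 3, 0, 3, 0, 2, 2]),
   ([2, 0, 0, 0, 0, 1, 0, 0, 0, 0, 2, 0, 0, 2, 0, 1], [3, 1, 0, 2, 0, 3, 2, 1, 3, 0, 3, 2, 2, 3, 2, 0]),
   ([2, 1, 0, 0, 0, 1, 0, 0, 0, 1, 2, 0, 2, 1, 1, 1], [2, 2, 0, 3, 0, 2, 3, 3, 1, 0, 2, 2, 3, 3, 1, 0]),
   ([2, 1, 1, 0, 0, 2, 0, 0, 1, 2, 1, 0, 0, 0, 2, 2], [2, 2, 0, 1, 1, 1, 3, 0, 0, 3, 2, 2, 3, 0, 2, 2]),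
   ([2, 2, 1, 0, 0, 2, 0, 0, 1, 0, 1, 0, 2, 1, 2, 2], [1, 1, 1, 0, 3, 0, 3, 3, 3, 3, 0, 3, 0, 3, 3, 3]),
   ([1, 1, 0, 0, 0, 1, 0, 0, 0, 0, 1, 0, 0, 1, 2, 1], [3, 1, 0, 1, 3, 0, 3, 1, 0, 3, 2, 3, 3, 1, 3, 0]),
   ([2, 2, 0, 0, 0, 1, 0, 0, 0, 0, 2, 0, 0, 2, 2, 1], [3, 0, 1, 3, 3, 3, 0, 3, 0, 2, 3, 2, 1, 1, 2, 0]),
   ([2, 0, 1, 0, 0, 2, 0, 0, 1, 2, 1, 0, 2, 0, 1, 2], [3, 0, 1, 1, 2, 3, 3, 0, 1, 2, 0, 2, 0, 2, 2, 2]),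
   ([1, 1, 0, 0, 0, 1, 0, 0, 0, 2, 1, 0, 2, 1, 2, 1], [0, 3, 0, 0, 0, 0, 1, 0, 2, 0, 0, 0, 0, 0, 0, 1]),
   ([2, 0, 1, 0, 0, 2, 0, 0, 1, 0, 1, 0, 0, 2, 0, 2], [3, 3, 2, 0, 0, 3, 2, 2, 3, 3, 0, 2, 3, 0, 2, 2]),
   ([1, 2, 0, 0, 0, 1, 0, 0, 0, 0, 1, 0, 0, 2, 1, 1], [2, 2, 0, 2, 1, 0, 2, 1, 0, 2, 3, 2, 1, 1, 2, 0]),
   ([2, 2, 1, 0, 0, 2, 0, 0, 1, 2, 1, 0, 1, 0, 0, 2], [0, 1, 2, 1, 1, 3, 1, 0, 3, 0, 3, 2, 3, 2, 0, 2]),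
   ([1, 2, 0, 0, 0, 1, 0, 0, 0, 1, 1, 0, 1, 2, 1, 1], [0, 0, 3, 0, 2, 0, 0, 0, 0, 1, 0, 0, 0, 0, 0, 1]),
   ([1, 2, 2, 0, 0, 2, 0, 0, 2, 0, 2, 0, 1, 0, 1, 2], [3, 1, 0, 2, 3, 1, 2, 0, 0, 2, 3, 3, 1, 0, 3, 3]),
   ([2, 1, 0, 0, 0, 1, 0, 0, 0, 0, 2, 0, 0, 2, 1, 1], [3, 3, 2, 0, 2, 3, 3, 0, 1, 3, 1, 0, 0, 0, 0, 2]),
   ([2, 2, 1, 0, 0, 2, 0, 0, 1, 0, 1, 0, 2, 2, 2, 2], [1, 0, 0, 0, 0, 3, 2, 1, 0, 2, 3, 1, 0, 1, 1, 1]),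
   ([2, 0, 1, 0, 0, 2, 0, 0, 1, 1, 1, 0, 1, 0, 2, 2], [0, 2, 1, 2, 1, 0, 2, 3, 3, 2, 1, 0, 1, 3, 0, 3]),
   ([1, 1, 0, 0, 0, 1, 0, 0, 0, 1, 1, 0, 1, 0, 2, 1], [0, 1, 2, 1, 3, 3, 0, 3, 1, 0, 2, 1, 1, 1, 2, 0]),
   ([1, 1, 0, 0, 0, 1, 0, 0, 0, 2, 1, 0, 2, 0, 2, 1], [3, 3, 2, 0, 1, 3, 1, 0, 2, 3, 3, 0, 0, 0, 0, 2]),
   ([1, 0, 2, 0, 0, 2, 0, 0, 2, 1, 2, 0, 2, 1, 1, 2], [0, 0, 3, 0, 3, 3, 0, 1, 1, 2, 0, 1, 2, 1, 0, 1]),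
   ([1, 0, 0, 0, 0, 1, 0, 0, 0, 1, 1, 0, 1, 1, 0, 1], [0, 2, 1, 2, 1, 2, 0, 2, 3, 0, 3, 1, 3, 1, 3, 0]),
   ([1, 0, 2, 0, 0, 2, 0, 0, 2, 2, 2, 0, 1, 0, 2, 2], [0, 1, 2, 2, 1, 2, 0, 3, 3, 1, 2, 0, 1, 0, 3, 3]),
   ([1, 0, 0, 0, 0, 1, 0, 0, 0, 2, 1, 0, 2, 1, 0, 1], [3, 0, 1, 3, 0, 2, 3, 2, 3, 3, 0, 3, 1, 1, 2, 0]),
   ([1, 2, 2, 0, 0, 2, 0, 0, 2, 1, 2, 0, 0, 2, 2, 2], [1, 2, 2, 0, 1, 0, 2, 2, 1, 2, 0, 2, 0, 2, 2, 2]),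
   ([1, 2, 0, 0, 0, 1, 0, 0, 0, 1, 1, 0, 1, 1, 1, 1], [3, 2, 3, 0, 2, 3, 3, 0, 1, 1, 3, 0, 0, 0, 0, 2]),
   ([1, 1, 2, 0, 0, 2, 0, 0, 2, 2, 2, 0, 0, 0, 1, 2], [0, 1, 2, 3, 0, 3, 2, 1, 2, 0, 0, 0, 0, 1, 1, 1]),
   ([1, 0, 2, 0, 0, 2, 0, 0, 2, 1, 2, 0, 2, 2, 1, 2], [3, 2, 3, 0, 0, 2, 3, 2, 3, 0, 3, 2, 3, 2, 0, 2]),
   ([2, 1, 0, 0, 0, 1, 0, 0, 0, 2, 2, 0, 1, 1, 1, 1], [2, 0, 2, 2, 1, 2, 0, 1, 0, 3, 2, 2, 1, 2, 1, 0]),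
   ([1, 1, 2, 0, 0, 2, 0, 0, 2, 0, 2, 0, 2, 2, 2, 2], [0, 2, 1, 2, 3, 2, 1, 0, 1, 0, 2, 3, 1, 3, 0, 3]),
   ([1, 2, 2, 0, 0, 2, 0, 0, 2, 1, 2, 0, 0, 1, 2, 2], [1, 0, 0, 0, 0, 2, 3, 1, 0, 3, 2, 1, 0, 1, 1, 1]),
   ([2, 0, 0, 0, 0, 1, 0, 0, 0, 0, 2, 0, 0, 0, 0, 1], [0, 2, 1, 1, 3, 0, 3, 3, 1, 2, 0, 1, 1, 2, 1, 0]),
   ([1, 2, 0, 0, 0, 1, 0, 0, 0, 2, 1, 0, 2, 0, 1, 1], [0, 2, 1, 1, 1, 2, 0, 1, 3, 0, 3, 3, 1, 2, 1, 0]),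
   ([1, 1, 0, 0, 0, 1, 0, 0, 0, 1, 1, 0, 1, 2, 2, 1], [3, 0, 1, 2, 0, 2, 3, 1, 3, 3, 0, 2, 2, 2, 3, 0]),
   ([1, 1, 0, 0, 0, 1, 0, 0, 0, 0, 1, 0, 0, 0, 2, 1], [2, 0, 2, 2, 0, 3, 2, 2, 1, 2, 0, 1, 1, 2, 1, 0]),
   ([1, 0, 0, 0, 0, 1, 0, 0, 0, 2, 1, 0, 2, 2, 0, 1], [0, 1, 2, 2, 3, 3, 0, 1, 1, 0, 2, 2, 3, 3, 1, 0]),
   ([1, 2, 2, 0, 0, 2, 0, 0, 2, 2, 2, 0, 2, 1, 0, 2], [3, 0, 1, 2, 0, 3, 2, 3, 3, 2, 1, 0, 1, 3, 0, 3]),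
   ([2, 0, 0, 0, 0, 1, 0, 0, 0, 2, 2, 0, 1, 1, 0, 1], [2, 2, 0, 2, 0, 2, 3, 2, 1, 0, 2, 1, 1, 1, 2, 0]),
   ([1, 1, 2, 0, 0, 2, 0, 0, 2, 2, 2, 0, 0, 1, 1, 2], [3, 0, 1, 1, 1, 2, 0, 2, 2, 3, 3, 0, 0, 2, 2, 2]),
   ([2, 1, 0, 0, 0, 1, 0, 0, 0, 2, 2, 0, 1, 0, 1, 1], [0, 2, 1, 3, 3, 0, 3, 2, 1, 2, 0, 3, 2, 3, 2, 0]),
   ([2, 0, 0, 0, 0, 1, 0, 0, 0, 2, 2, 0, 1, 0, 0, 1], [0, 1, 2, 3, 1, 0, 2, 3, 3, 3, 0, 2, 2, 2, 3, 0]),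
   ([2, 2, 0, 0, 0, 1, 0, 0, 0, 0, 2, 0, 0, 0, 2, 1], [0, 1, 2, 2, 1, 0, 2, 2, 3, 3, 0, 1, 3, 3, 1, 0]),
   ([1, 1, 0, 0, 0, 2, 0, 0, 0, 0, 1, 0, 0, 2, 1, 2], [2, 2, 0, 1, 0, 2, 3, 1, 1, 0, 2, 3, 2, 2, 3, 0]),
   ([1, 0, 0, 0, 0, 2, 0, 0, 0, 2, 1, 0, 1, 1, 0, 2], [3, 2, 3, 0, 1, 1, 3, 0, 2, 3, 3, 0, 0, 0, 0, 2]),
   ([1, 2, 2, 0, 0, 1, 0, 0, 2, 2, 2, 0, 1, 2, 0, 1], [2, 0, 2, 2, 3, 3, 0, 3, 2, 2, 2, 0, 0, 3, 3, 3]),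
   ([2, 1, 0, 0, 0, 2, 0, 0, 0, 0, 2, 0, 0, 0, 2, 2], [3, 0, 1, 1, 0, 2, 3, 3, 3, 3, 0, 1, 3, 3, 1, 0]),
   ([1, 1, 2, 0, 0, 1, 0, 0, 2, 0, 2, 0, 1, 0, 1, 1], [1, 2, 2, 0, 1, 2, 0, 2, 1, 0, 2, 2, 0, 2, 2, 2]),
   ([1, 1, 2, 0, 0, 1, 0, 0, 2, 2, 2, 0, 0, 0, 2, 1], [2, 0, 2, 3, 1, 0, 2, 1, 0, 1, 0, 0, 2, 0, 1, 1]),
   ([2, 0, 0, 0, 0, 2, 0, 0, 0, 0, 2, 0, 0, 2, 0, 2], [1, 1, 1, 0, 3, 1, 2, 0, 3, 2, 1, 0, 0, 0, 0, 3]),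
   ([1, 2, 2, 0, 0, 1, 0, 0, 2, 0, 2, 0, 2, 1, 2, 1], [2, 1, 3, 0, 0, 3, 2, 3, 1, 0, 2, 3, 1, 3, 0, 3]),
   ([2, 0, 0, 0, 0, 2, 0, 0, 0, 2, 2, 0, 2, 1, 0, 2], [2, 0, 2, 1, 0, 3, 2, 1, 1, 2, 0, 3, 2, 3, 2, 0]),
   ([2, 0, 1, 0, 0, 1, 0, 0, 1, 1, 1, 0, 2, 1, 1, 1], [2, 2, 0, 1, 0, 3, 2, 2, 1, 1, 3, 0, 3, 0, 2, 2]),
   ([1, 0, 0, 0, 0, 2, 0, 0, 0, 0, 1, 0, 0, 2, 0, 2], [2, 0, 2, 3, 1, 2, 0, 2, 0, 3, 2, 3, 3, 1, 3, 0]),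
   ([1, 1, 2, 0, 0, 1, 0, 0, 2, 1, 2, 0, 2, 1, 0, 1], [2, 2, 0, 3, 0, 0, 1, 0, 1, 2, 0, 1, 2, 1, 0, 1]),
   ([2, 1, 0, 0, 0, 2, 0, 0, 0, 2, 2, 0, 2, 0, 2, 2], [2, 1, 3, 0, 2, 2, 2, 0, 3, 1, 2, 0, 0, 0, 0, 3]),
   ([2, 1, 0, 0, 0, 2, 0, 0, 0, 1, 2, 0, 1, 2, 2, 2], [2, 0, 2, 3, 0, 3, 2, 3, 1, 2, 0, 2, 3, 1, 3, 0]),
   ([2, 2, 1, 0, 0, 1, 0, 0, 1, 0, 1, 0, 1, 2, 1, 1], [2, 0, 2, 1, 1, 3, 1, 0, 0, 2, 3, 2, 3, 2, 0, 2]),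
   ([2, 2, 1, 0, 0, 1, 0, 0, 1, 2, 1, 0, 2, 1, 0, 1], [3, 3, 2, 0, 3, 3, 0, 2, 0, 3, 2, 2, 3, 0, 2, 2]),
   ([2, 2, 0, 0, 0, 2, 0, 0, 0, 1, 2, 0, 1, 1, 1, 2], [2, 3, 1, 0, 3, 2, 1, 0, 2, 2, 2, 0, 0, 0, 0, 3]),
   ([2, 0, 1, 0, 0, 1, 0, 0, 1, 0, 1, 0, 0, 0, 0, 1], [3, 1, 0, 1, 2, 3, 3, 0, 1, 0, 2, 2, 0, 2, 2, 2]),
   ([2, 1, 1, 0, 0, 1, 0, 0, 1, 2, 1, 0, 0, 2, 1, 1], [1, 0, 0, 0, 0, 2, 3, 1, 0, 3, 2, 1, 0, 1, 1, 1]),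
   ([2, 2, 1, 0, 0, 1, 0, 0, 1, 0, 1, 0, 1, 1, 1, 1], [0, 2, 1, 2, 3, 2, 1, 0, 1, 0, 2, 3, 1, 3, 0, 3]),
   ([1, 0, 0, 0, 0, 2, 0, 0, 0, 1, 1, 0, 2, 2, 0, 2], [2, 2, 0, 2, 0, 2, 3, 2, 1, 0, 2, 1, 1, 1, 2, 0]),
   ([2, 1, 1, 0, 0, 1, 0, 0, 1, 2, 1, 0, 0, 1, 1, 1], [1, 2, 2, 0, 1, 0, 2, 2, 1, 2, 0, 2, 0, 2, 2, 2]),
   ([1, 0, 0, 0, 0, 2, 0, 0, 0, 1, 1, 0, 2, 0, 0, 2], [0, 1, 2, 3, 1, 0, 2, 3, 3, 3, 0, 2, 2, 2, 3, 0]),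
   ([1, 1, 0, 0, 0, 2, 0, 0, 0, 1, 1, 0, 2, 0, 1, 2], [1, 0, 0, 0, 0, 0, 1, 0, 0, 1, 0, 0, 0, 0, 0, 1]),
   ([1, 2, 0, 0, 0, 2, 0, 0, 0, 0, 1, 0, 0, 1, 2, 2], [3, 3, 2, 0, 2, 3, 3, 0, 1, 3, 1, 0, 0, 0, 0, 2]),
   ([2, 0, 1, 0, 0, 1, 0, 0, 1, 1, 1, 0, 2, 0, 1, 1], [0, 1, 2, 2, 1, 2, 0, 3, 3, 1, 2, 0, 1, 0, 3, 3]),
   ([1, 2, 0, 0, 0, 2, 0, 0, 0, 1, 1, 0, 2, 2, 2, 2], [2, 0, 2, 2, 1, 2, 0, 1, 0, 3, 2, 2, 1, 2, 1, 0]),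
   ([1, 0, 2, 0, 0, 1, 0, 0, 2, 2, 2, 0, 2, 0, 1, 1], [0, 2, 1, 2, 1, 0, 2, 3, 3, 2, 1, 0, 1, 3, 0, 3]),
   ([1, 2, 0, 0, 0, 2, 0, 0, 0, 1, 1, 0, 2, 0, 2, 2], [0, 2, 1, 3, 3, 0, 3, 2, 1, 2, 0, 3, 2, 3, 2, 0]),
   ([2, 1, 1, 0, 0, 2, 0, 0, 1, 1, 1, 0, 2, 0, 0, 2], [3, 1, 0, 1, 1, 0, 2, 2, 2, 3, 3, 0, 0, 2, 2, 2]),
   ([2, 1, 1, 0, 0, 2, 0, 0, 1, 2, 1, 0, 0, 1, 2, 2], [0, 1, 2, 2, 3, 1, 2, 0, 1, 2, 0, 3, 1, 0, 3, 3]),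
   ([2, 0, 1, 0, 0, 2, 0, 0, 1, 1, 1, 0, 1, 1, 2, 2], [3, 1, 0, 3, 3, 3, 0, 1, 0, 0, 1, 0, 2, 1, 0, 1]),
   ([1, 1, 2, 0, 0, 2, 0, 0, 2, 1, 2, 0, 1, 1, 0, 2], [0, 3, 0, 0, 1, 0, 2, 1, 3, 0, 3, 1, 2, 0, 1, 1]),
   ([2, 1, 1, 0, 0, 2, 0, 0, 1, 0, 1, 0, 1, 1, 1, 2], [3, 2, 3, 0, 3, 0, 3, 2, 0, 2, 3, 2, 3, 2, 0, 2]),
   ([1, 2, 2, 0, 0, 2, 0, 0, 2, 0, 2, 0, 1, 1, 1, 2], [2, 0, 2, 3, 0, 1, 0, 0, 1, 0, 2, 1, 2, 0, 1, 1]),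
   ([1, 0, 2, 0, 0, 2, 0, 0, 2, 0, 2, 0, 0, 2, 0, 2], [0, 2, 1, 3, 2, 0, 0, 0, 0, 2, 3, 1, 0, 1, 1, 1]),
   ([1, 2, 2, 0, 0, 2, 0, 0, 2, 2, 2, 0, 2, 2, 0, 2], [2, 2, 0, 3, 1, 2, 0, 1, 0, 0, 1, 0, 2, 1, 0, 1]),
   ([2, 2, 0, 0, 0, 1, 0, 0, 0, 2, 2, 0, 1, 1, 2, 1], [1, 1, 1, 0, 3, 2, 1, 0, 3, 1, 2, 0, 0, 0, 0, 3]),
   ([2, 2, 0, 0, 0, 1, 0, 0, 0, 2, 2, 0, 1, 0, 2, 1], [1, 0, 0, 0, 0, 0, 1, 0, 0, 1, 0, 0, 0, 0, 0, 1])]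

def uParent : List (ℕ × ℕ) :=
  [(0, 0), (0, 0), (1, 0), (0, 1), (1, 1), (0, 2), (1, 2), (0, 3), (1, 3), (0, 4),
   (1, 4), (0, 5), (1, 5), (0, 6), (1, 6), (0, 7), (1, 7), (0, 8), (1, 8), (0, 9),
   (1, 9), (0, 10), (1, 10), (1, 11), (0, 12), (1, 12), (0, 13), (1, 13), (0, 14), (1, 14),
   (0, 15), (1, 15), (0, 16), (1, 16), (0, 17), (1, 17), (0, 18), (1, 18), (1, 19), (1, 20),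
   (0, 21), (1, 21), (0, 22), (1, 22), (0, 23), (1, 23), (0, 24), (1, 24), (1, 25), (1, 26),
   (0, 27), (1, 27), (0, 28), (1, 28), (1, 29), (1, 30), (0, 31), (1, 31), (0, 32), (1, 32),
   (0, 33), (1, 33), (1, 34), (1, 35), (0, 36), (1, 36), (0, 37), (1, 37), (0, 38), (1, 38),
   (1, 39), (1, 40), (0, 41), (1, 41), (0, 42), (1, 42), (1, 43), (0, 44), (1, 44), (0, 45),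
   (1, 45), (1, 46), (1, 47), (0, 48), (1, 48), (1, 50), (1, 51), (1, 52), (0, 53), (1, 53),
   (0, 55), (1, 55), (0, 56), (0, 57), (1, 57), (1, 58), (1, 59), (0, 60), (1, 60), (0, 61),
   (1, 61), (0, 62), (1, 62), (1, 63), (1, 64), (0, 65), (1, 65), (0, 66), (1, 66), (1, 67),
   (0, 68), (1, 68), (0, 69), (1, 69), (0, 70), (1, 70), (1, 72), (1, 73), (1, 74), (0, 75),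
   (1, 75), (1, 78), (1, 79), (0, 80), (1, 80), (0, 81), (1, 81), (1, 82), (0, 83), (1, 83),
   (1, 84), (0, 86), (1, 88), (1, 89), (0, 90), (0, 91), (1, 91), (1, 92), (0, 93), (1, 93),
   (0, 94), (1, 94), (0, 95), (1, 95), (1, 96), (1, 97), (1, 98), (0, 99), (1, 99), (1, 100),
   (0, 101), (1, 101), (0, 102), (1, 102), (0, 103), (1, 103), (1, 105), (1, 106), (1, 107), (1, 108),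
   (1, 111), (1, 113), (1, 114), (1, 115), (0, 117), (1, 119), (1, 120), (0, 122), (0, 123), (1, 125),
   (0, 126), (1, 126), (1, 127), (0, 129), (1, 129), (1, 131), (0, 133), (1, 134), (0, 135), (0, 136),
   (1, 136), (1, 137), (1, 138), (1, 139), (0, 140), (1, 140), (1, 141), (0, 142), (0, 143), (1, 143),
   (0, 144), (1, 144), (1, 146), (1, 147), (1, 148), (1, 153), (1, 154), (1, 155), (0, 162), (1, 162),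
   (1, 164), (0, 166), (1, 169), (1, 171), (1, 172), (0, 175), (1, 177), (1, 178), (0, 179), (1, 180),
   (0, 181), (1, 183), (1, 189), (1, 190), (1, 191), (1, 196)]

def uStep : List (List ℕ) :=
  [[1, 3, 5, 7, 9, 11, 13, 15, 17, 19, 21, 16, 24, 26, 28, 30, 32, 34, 36, 31, 12, 40, 42, 44, 46, 41, 33, 50, 52, 43, 0, 56, 58, 60, 55, 20, 64, 66, 68, 65, 57, 72, 74, 67, 77, 79, 59, 27, 83, 69, 63, 73, 61, 88, 84, 90, 92, 93, 2, 35, 97, 99, 101, 98, 91, 105, 107, 100, 110, 112, 114, 102, 96, 106, 94, 119, 115, 95, 47, 104, 123, 125, 122, 128, 124, 53, 131, 126, 121, 117, 134, 135, 4, 138, 140, 142, 139, 6, 78, 147, 141, 150, 152, 154, 143, 81, 146, 136, 80, 155, 137, 25, 145, 85, 87, 161, 75,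 164, 82, 160, 157, 148, 167, 168, 149, 151, 170, 165, 144, 173, 172, 159, 76, 176, 8, 178, 179, 133, 10, 111, 184, 180, 187, 188, 190, 181, 183, 14, 113, 191, 177, 39, 182, 116, 118, 195, 108, 129, 48, 192, 185, 186, 198, 130, 194, 109, 201, 103, 189, 51, 193, 132, 203, 202, 200, 205, 38, 166, 18, 208, 29, 210, 206, 169, 22, 153, 171, 23, 207, 156, 158, 212, 162, 70, 211, 209, 89, 163, 86, 174, 175, 62, 213, 214, 71, 215, 204, 45, 37, 127, 49, 196, 54, 120, 197, 199],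
   [2, 4, 6, 8, 10, 12, 14, 16, 18, 20, 22, 23, 25, 27, 29, 31, 33, 35, 37, 38, 39, 41, 43, 45, 47, 48, 49, 51, 53, 54, 55, 57, 59, 61, 62, 63, 65, 67, 69, 70, 71, 73, 75, 76, 78, 80, 81, 82, 84, 15, 85, 86, 87, 89, 21, 91, 46, 94, 95, 96, 98, 100, 102, 103, 104, 106, 108, 109, 111, 113, 115, 30, 116, 117, 118, 120, 36, 42, 121, 122, 124, 126, 127, 129, 130, 34, 40, 32, 132, 133, 24, 136, 137, 139, 141, 143, 144, 145, 146, 148, 149, 151, 153, 155, 0, 156, 157, 158, 159, 60, 66, 160, 83, 161, 162, 163, 58, 64, 56, 165, 166, 134, 164, 19, 150, 169, 171, 172, 17, 174, 79, 175, 77, 72, 177, 125, 180, 181, 182, 183, 185, 186, 50, 189, 191, 1, 192, 193, 194, 93, 99, 123, 114, 195, 196, 197, 92,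 97, 90, 44, 11, 187, 199, 112, 200, 110, 105, 9, 198, 202, 131, 203, 204, 101, 184, 107, 179, 206, 207, 168, 209, 88, 3, 211, 167, 173, 135, 140, 154, 212, 213, 214, 138, 5, 68, 176, 215, 152, 142, 208, 147, 28, 26, 210, 170, 74, 119, 7, 128, 13, 190, 178, 201, 205, 188, 52]]

/-- A transversal. -/
def tData : List (List ℕ × List ℕ) :=
  [([1, 0, 0, 0, 0, 1, 0, 0, 0, 0, 1, 0, 0, 0, 0, 1], [1, 0, 0, 0, 0, 1, 0, 0, 0, 0, 1, 0, 0, 0, 0, 1]),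
   ([2, 0, 1, 0, 2, 0, 1, 1, 1, 1, 1, 2, 2, 2, 1, 2], [2, 0, 1, 3, 1, 3, 3, 0, 3, 2, 0, 1, 0, 1, 1, 3]),
   ([2, 0, 1, 2, 1, 0, 2, 2, 2, 2, 2, 1, 1, 2, 1, 1], [1, 0, 2, 3, 0, 2, 3, 1, 3, 3, 1, 0, 1, 1, 0, 3]),
   ([1, 1, 1, 0, 2, 0, 1, 1, 0, 1, 2, 2, 1, 1, 0, 1], [1, 2, 0, 2, 1, 2, 2, 0, 2, 0, 3, 3, 0, 1, 1, 1]),
   ([2, 1, 0, 2, 1, 0, 1, 1, 0, 2, 2, 1, 1, 2, 1, 2], [0, 1, 1, 2, 3, 3, 3, 0, 3, 0, 3, 1, 2, 2, 0, 3]),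
   ([0, 0, 0, 2, 2, 0, 1, 1, 1, 1, 1, 2, 2, 0, 0, 2], [0, 3, 0, 0, 2, 0, 3, 3, 3, 0, 2, 3, 3, 0, 3, 2]),
   ([1, 2, 0, 1, 1, 0, 2, 2, 1, 2, 0, 0, 1, 0, 0, 0], [2, 1, 0, 1, 3, 0, 2, 2, 1, 3, 3, 0, 0, 3, 3, 3]),
   ([0, 2, 1, 2, 1, 1, 2, 0, 1, 0, 1, 1, 1, 0, 1, 2], [2, 0, 2, 3, 3, 3, 3, 0, 2, 2, 0, 3, 0, 2, 2, 3]),
   ([0, 2, 1, 2, 1, 0, 2, 2, 0, 2, 1, 1, 1, 0, 0, 2], [0, 0, 3, 0, 3, 2, 0, 1, 2, 3, 0, 1, 2, 2, 0, 2]),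
   ([1, 0, 2, 0, 2, 0, 1, 1, 1, 2, 0, 2, 2, 2, 1, 0], [0, 2, 1, 2, 1, 0, 0, 0, 0, 2, 3, 3, 0, 3, 3, 2]),
   ([2, 0, 1, 2, 0, 1, 1, 0, 2, 1, 1, 2, 2, 2, 0, 0], [0, 0, 0, 3, 3, 3, 3, 0, 1, 3, 2, 0, 3, 1, 2, 0]),
   ([0, 2, 2, 0, 2, 0, 2, 2, 0, 1, 1, 2, 0, 0, 2, 0], [3, 0, 2, 3, 0, 1, 0, 0, 1, 0, 1, 3, 3, 0, 1, 1]),
   ([2, 1, 0, 0, 1, 0, 1, 1, 2, 0, 2, 0, 0, 2, 0, 0], [0, 3, 2, 2, 1, 2, 0, 1, 1, 2, 1, 0, 2, 0, 2, 2]),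
   ([1, 1, 2, 2, 2, 0, 0, 1, 2, 1, 2, 2, 2, 2, 0, 2], [2, 3, 1, 0, 0, 3, 1, 1, 3, 0, 2, 2, 1, 2, 0, 3]),
   ([0, 1, 2, 1, 2, 0, 1, 1, 1, 1, 1, 1, 0, 2, 0, 2], [3, 0, 0, 0, 0, 3, 2, 1, 0, 2, 3, 1, 0, 2, 2, 2]),
   ([1, 1, 1, 0, 0, 1, 1, 2, 1, 1, 2, 0, 0, 1, 0, 0], [1, 1, 0, 2, 3, 3, 3, 0, 0, 2, 2, 3, 3, 0, 3, 1]),
   ([1, 1, 1, 0, 2, 0, 1, 1, 2, 1, 0, 0, 1, 2, 2, 2], [0, 1, 2, 1, 3, 3, 1, 0, 2, 0, 3, 2, 3, 3, 0, 3]),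
   ([0, 0, 0, 2, 1, 0, 0, 2, 2, 1, 2, 0, 1, 0, 1, 0], [2, 3, 1, 0, 3, 3, 3, 0, 0, 0, 0, 3, 2, 1, 3, 0]),
   ([2, 0, 0, 1, 2, 2, 1, 0, 2, 0, 2, 2, 1, 1, 2, 2], [3, 2, 0, 1, 3, 0, 2, 1, 0, 2, 2, 1, 2, 1, 1, 0]),
   ([2, 2, 2, 2, 1, 1, 2, 0, 1, 2, 2, 0, 1, 2, 1, 2], [3, 1, 3, 0, 0, 2, 1, 1, 3, 1, 0, 3, 2, 0, 2, 2]),
   ([1, 1, 0, 2, 2, 1, 1, 1, 1, 0, 0, 1, 2, 0, 0, 0], [1, 3, 2, 0, 1, 3, 0, 1, 0, 3, 2, 1, 1, 0, 2, 1]),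
   ([2, 1, 0, 2, 2, 0, 1, 1, 0, 1, 2, 2, 0, 2, 0, 1], [2, 1, 0, 2, 0, 2, 3, 3, 2, 1, 2, 0, 1, 0, 1, 1]),
   ([1, 0, 2, 1, 1, 0, 2, 2, 0, 1, 2, 0, 2, 2, 0, 1], [1, 2, 0, 1, 2, 0, 3, 2, 1, 2, 2, 0, 0, 2, 2, 1]),
   ([0, 0, 0, 2, 1, 0, 0, 1, 0, 1, 1, 0, 1, 0, 1, 1], [3, 2, 1, 0, 3, 3, 3, 0, 3, 1, 2, 0, 0, 0, 0, 1]),
   ([0, 0, 0, 2, 1, 0, 2, 2, 2, 1, 0, 1, 1, 0, 0, 0], [2, 0, 1, 2, 2, 0, 3, 3, 0, 1, 0, 0, 3, 0, 3, 2]),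
   ([2, 2, 2, 0, 2, 0, 1, 1, 2, 2, 2, 2, 2, 0, 0, 2], [2, 1, 0, 1, 1, 3, 3, 0, 3, 0, 2, 2, 0, 3, 3, 3]),
   ([0, 2, 1, 2, 2, 1, 2, 2, 2, 0, 2, 0, 2, 0, 2, 1], [0, 3, 3, 1, 3, 3, 3, 0, 2, 2, 0, 3, 1, 0, 1, 2]),
   ([1, 2, 1, 1, 0, 2, 2, 0, 1, 2, 2, 1, 0, 0, 2, 2], [2, 1, 2, 0, 3, 2, 0, 3, 2, 0, 2, 2, 0, 3, 1, 1]),
   ([0, 2, 1, 0, 0, 1, 1, 0, 1, 1, 2, 1, 1, 2, 2, 2], [3, 3, 1, 0, 0, 1, 2, 3, 3, 0, 1, 2, 3, 3, 0, 2]),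
   ([0, 1, 0, 0, 2, 0, 0, 0, 2, 0, 0, 1, 1, 1, 2, 0], [3, 0, 3, 1, 1, 0, 3, 3, 2, 0, 3, 2, 0, 3, 0, 0]),
   ([1, 1, 2, 1, 1, 0, 1, 1, 0, 2, 2, 1, 2, 1, 1, 1], [3, 2, 2, 0, 1, 2, 1, 0, 0, 0, 0, 2, 3, 3, 1, 0]),
   ([2, 2, 1, 1, 2, 0, 2, 2, 0, 0, 0, 2, 2, 0, 1, 0], [2, 2, 0, 2, 0, 1, 1, 1, 3, 3, 3, 0, 1, 0, 1, 1]),
   ([0, 2, 2, 2, 0, 2, 1, 2, 2, 0, 0, 1, 1, 2, 1, 0], [2, 0, 1, 1, 0, 3, 1, 1, 1, 2, 0, 3, 3, 1, 2, 0]),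
   ([0, 2, 2, 2, 2, 0, 2, 2, 1, 0, 1, 0, 0, 1, 0, 1], [2, 1, 0, 3, 3, 0, 3, 1, 0, 3, 1, 2, 1, 3, 1, 0]),
   ([1, 2, 0, 1, 1, 0, 1, 1, 1, 1, 2, 0, 0, 1, 2, 1], [1, 1, 3, 0, 2, 0, 1, 3, 0, 3, 2, 1, 1, 1, 0, 2]),
   ([0, 2, 2, 0, 0, 1, 2, 0, 2, 2, 0, 1, 2, 0, 1, 2], [0, 3, 3, 2, 0, 3, 1, 1, 0, 1, 3, 1, 1, 0, 0, 0]),
   ([0, 0, 0, 1, 2, 0, 0, 1, 0, 2, 1, 1, 1, 0, 2, 2], [2, 3, 0, 3, 0, 0, 1, 0, 3, 3, 0, 2, 2, 1, 0, 2]),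
   ([1, 0, 0, 0, 0, 2, 0, 2, 0, 0, 1, 0, 0, 1, 0, 0], [3, 0, 0, 0, 0, 1, 3, 2, 0, 1, 1, 1, 0, 2, 3, 1]),
   ([1, 2, 0, 1, 1, 0, 2, 2, 2, 2, 2, 2, 0, 2, 2, 0], [0, 2, 1, 2, 3, 0, 2, 3, 2, 2, 1, 0, 1, 1, 0, 1]),
   ([0, 0, 0, 1, 2, 0, 1, 1, 1, 2, 0, 2, 1, 0, 1, 1], [0, 1, 2, 1, 3, 2, 0, 2, 2, 1, 2, 0, 2, 0, 2, 1]),
   ([1, 0, 2, 0, 1, 2, 2, 2, 0, 0, 1, 1, 2, 1, 1, 0], [1, 3, 2, 0, 3, 3, 3, 0, 2, 3, 1, 0, 0, 0, 0, 1]),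
   ([2, 1, 1, 1, 0, 2, 2, 1, 2, 2, 1, 0, 1, 1, 0, 2], [3, 3, 1, 0, 2, 0, 3, 1, 2, 2, 0, 1, 0, 3, 1, 2]),
   ([0, 1, 2, 2, 0, 1, 1, 2, 2, 2, 0, 0, 1, 0, 1, 2], [2, 3, 0, 2, 2, 3, 2, 0, 0, 1, 3, 3, 2, 0, 2, 2]),
   ([1, 0, 2, 0, 2, 2, 1, 2, 1, 0, 0, 2, 1, 1, 2, 0], [0, 0, 0, 2, 3, 3, 3, 0, 2, 1, 3, 0, 3, 1, 2, 0]),
   ([2, 1, 2, 1, 0, 1, 0, 1, 2, 1, 1, 1, 0, 1, 1, 2], [2, 2, 0, 3, 0, 1, 3, 2, 2, 2, 1, 0, 2, 0, 1, 3]),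
   ([2, 1, 2, 2, 1, 1, 2, 0, 1, 0, 1, 1, 0, 1, 1, 0], [0, 1, 2, 3, 3, 1, 0, 3, 1, 2, 3, 0, 3, 0, 2, 3]),
   ([2, 2, 0, 1, 2, 2, 1, 0, 1, 0, 2, 0, 2, 0, 1, 2], [3, 3, 0, 3, 0, 3, 3, 3, 3, 3, 3, 0, 1, 0, 1, 1]),
   ([0, 0, 2, 1, 1, 1, 1, 0, 2, 1, 1, 1, 0, 0, 2, 2], [0, 2, 1, 3, 1, 3, 0, 1, 1, 0, 2, 1, 2, 1, 3, 0]),
   ([0, 1, 2, 1, 1, 1, 2, 0, 0, 1, 1, 2, 2, 2, 2, 0], [1, 2, 0, 3, 1, 0, 2, 3, 1, 2, 2, 0, 0, 1, 1, 2]),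
   ([2, 0, 0, 1, 0, 2, 1, 0, 0, 0, 2, 0, 0, 0, 0, 2], [3, 3, 0, 2, 1, 3, 0, 1, 0, 0, 2, 0, 2, 3, 0, 3]),
   ([0, 1, 2, 0, 1, 2, 2, 2, 2, 0, 0, 2, 1, 1, 1, 2], [1, 2, 3, 0, 0, 2, 3, 1, 1, 0, 3, 1, 1, 2, 0, 1]),
   ([2, 0, 1, 0, 2, 1, 1, 1, 2, 1, 0, 0, 2, 0, 1, 1], [3, 2, 0, 2, 0, 2, 3, 2, 2, 0, 2, 1, 1, 3, 1, 0]),
   ([0, 0, 0, 1, 2, 0, 1, 1, 2, 2, 2, 1, 0, 0, 2, 1], [3, 2, 2, 0, 3, 0, 2, 1, 3, 2, 0, 1, 0, 1, 1, 3]),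
   ([1, 0, 2, 0, 1, 2, 2, 1, 1, 0, 0, 1, 2, 1, 1, 1], [2, 3, 1, 0, 3, 3, 3, 0, 0, 0, 0, 1, 1, 3, 2, 0]),
   ([1, 0, 2, 0, 2, 0, 1, 1, 0, 2, 1, 0, 2, 2, 1, 1], [2, 3, 2, 0, 2, 3, 0, 1, 0, 3, 2, 1, 1, 0, 1, 3]),
   ([2, 1, 0, 2, 1, 0, 0, 0, 0, 2, 0, 2, 2, 2, 1, 2], [3, 0, 3, 1, 3, 3, 3, 0, 0, 3, 3, 1, 3, 3, 0, 1]),
   ([1, 1, 1, 2, 1, 0, 0, 1, 0, 1, 1, 2, 2, 2, 0, 0], [2, 0, 3, 1, 2, 2, 3, 0, 0, 3, 1, 2, 3, 3, 0, 2]),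
   ([0, 1, 1, 1, 1, 1, 2, 2, 0, 1, 0, 2, 1, 1, 0, 2], [2, 2, 0, 3, 3, 3, 2, 0, 3, 0, 2, 1, 0, 2, 1, 3]),
   ([2, 0, 1, 2, 2, 0, 1, 1, 1, 2, 0, 2, 2, 1, 2, 0], [1, 1, 3, 0, 3, 0, 2, 2, 0, 3, 2, 2, 2, 2, 0, 1]),
   ([0, 1, 2, 1, 1, 0, 2, 2, 2, 1, 0, 0, 0, 2, 2, 2], [0, 1, 2, 3, 0, 3, 2, 1, 1, 0, 0, 0, 0, 2, 2, 2]),
   ([2, 1, 0, 2, 0, 1, 0, 2, 2, 1, 2, 2, 0, 1, 1, 0], [1, 1, 0, 2, 3, 3, 3, 0, 1, 0, 1, 2, 0, 1, 1, 2]),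
   ([2, 1, 0, 2, 1, 0, 2, 2, 1, 1, 1, 1, 2, 2, 0, 1], [1, 3, 1, 0, 0, 2, 3, 3, 3, 2, 0, 3, 1, 0, 1, 1]),
   ([2, 0, 1, 0, 2, 0, 1, 1, 1, 1, 1, 2, 0, 2, 0, 1], [1, 2, 0, 1, 1, 2, 2, 0, 2, 0, 3, 2, 0, 2, 2, 1]),
   ([0, 0, 0, 2, 2, 0, 0, 1, 1, 1, 2, 1, 2, 0, 2, 2], [0, 0, 0, 2, 3, 3, 3, 0, 3, 1, 2, 0, 2, 1, 3, 0]),
   ([1, 2, 0, 0, 2, 1, 2, 2, 2, 2, 0, 2, 2, 2, 1, 1], [2, 3, 0, 1, 2, 1, 0, 3, 0, 0, 2, 0, 1, 1, 0, 1]),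
   ([2, 1, 1, 1, 1, 1, 0, 2, 2, 0, 0, 0, 1, 0, 0, 1], [1, 3, 2, 0, 3, 0, 1, 3, 0, 3, 2, 1, 2, 1, 0, 2]),
   ([2, 2, 0, 2, 0, 1, 1, 0, 2, 1, 1, 2, 1, 1, 2, 2], [3, 1, 1, 0, 3, 0, 1, 2, 0, 2, 2, 3, 2, 3, 0, 1]),
   ([0, 2, 0, 0, 0, 2, 2, 0, 2, 1, 0, 2, 1, 1, 1, 0], [3, 0, 3, 2, 0, 3, 3, 2, 3, 3, 3, 0, 2, 2, 0, 1]),
   ([0, 0, 1, 0, 0, 0, 0, 2, 2, 0, 0, 0, 0, 1, 0, 1], [1, 0, 2, 1, 1, 0, 3, 3, 0, 3, 0, 0, 1, 0, 1, 2]),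
   ([0, 0, 1, 0, 0, 2, 2, 0, 2, 2, 1, 2, 0, 0, 1, 2], [1, 0, 2, 2, 1, 3, 2, 0, 1, 3, 0, 2, 0, 2, 1, 1]),
   ([1, 0, 2, 1, 0, 1, 1, 0, 1, 0, 0, 1, 0, 0, 0, 1], [0, 1, 2, 1, 1, 2, 0, 2, 3, 0, 2, 1, 2, 3, 1, 0]),
   ([1, 2, 1, 1, 2, 1, 0, 0, 0, 2, 2, 2, 0, 2, 1, 2], [0, 3, 3, 3, 1, 0, 3, 3, 1, 3, 0, 3, 1, 3, 3, 0]),
   ([1, 2, 0, 0, 1, 0, 0, 0, 1, 0, 0, 2, 0, 2, 1, 1], [0, 2, 2, 3, 1, 2, 2, 0, 3, 1, 0, 2, 1, 0, 2, 3]),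
   ([1, 2, 0, 1, 2, 0, 0, 0, 2, 1, 0, 1, 1, 0, 2, 2], [0, 3, 2, 3, 3, 0, 2, 3, 1, 1, 0, 1, 1, 1, 3, 0]),
   ([2, 1, 0, 0, 1, 2, 1, 1, 0, 2, 1, 2, 2, 0, 1, 1], [3, 1, 0, 2, 0, 3, 1, 1, 3, 1, 2, 0, 3, 0, 2, 2]),
   ([0, 1, 1, 0, 2, 0, 2, 2, 2, 2, 1, 0, 2, 1, 2, 2], [2, 1, 0, 3, 0, 1, 3, 3, 3, 2, 1, 0, 2, 0, 3, 3]),
   ([1, 1, 2, 1, 0, 1, 0, 1, 2, 2, 2, 2, 0, 1, 2, 2], [3, 0, 0, 0, 0, 3, 1, 1, 0, 3, 3, 2, 0, 2, 1, 2]),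
   ([0, 2, 0, 2, 0, 1, 2, 1, 1, 0, 0, 2, 1, 0, 0, 0], [3, 0, 3, 1, 0, 2, 2, 3, 3, 3, 0, 1, 1, 1, 1, 0]),
   ([2, 0, 2, 1, 0, 2, 1, 2, 2, 2, 2, 0, 2, 2, 0, 2], [2, 2, 0, 1, 1, 2, 0, 2, 0, 0, 3, 0, 2, 1, 0, 2]),
   ([2, 1, 1, 2, 0, 0, 2, 2, 1, 2, 2, 2, 1, 0, 2, 0], [0, 1, 3, 1, 1, 3, 2, 0, 2, 0, 3, 1, 3, 2, 0, 2]),
   ([0, 1, 1, 0, 2, 0, 2, 2, 1, 2, 0, 2, 1, 2, 2, 1], [0, 0, 1, 0, 1, 3, 0, 3, 1, 2, 0, 1, 3, 3, 0, 1]),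
   ([0, 2, 2, 2, 0, 0, 1, 0, 0, 2, 1, 1, 2, 1, 2, 0], [1, 2, 3, 0, 0, 3, 1, 1, 1, 2, 0, 3, 1, 0, 3, 3]),
   ([0, 0, 2, 0, 0, 2, 1, 0, 1, 1, 0, 2, 0, 0, 1, 2], [3, 0, 1, 3, 3, 2, 1, 0, 2, 1, 0, 2, 0, 1, 3, 2]),
   ([2, 0, 1, 1, 1, 0, 2, 0, 0, 2, 0, 2, 0, 2, 1, 2], [3, 0, 2, 2, 0, 2, 2, 2, 1, 3, 0, 3, 3, 2, 2, 0]),
   ([0, 2, 1, 0, 1, 2, 0, 2, 1, 2, 2, 1, 0, 2, 2, 0], [1, 1, 0, 2, 0, 1, 3, 2, 3, 3, 2, 0, 2, 0, 1, 3]),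
   ([2, 2, 1, 2, 0, 2, 0, 2, 1, 0, 1, 0, 2, 0, 2, 2], [0, 1, 3, 3, 3, 2, 0, 1, 2, 0, 3, 3, 2, 1, 3, 0]),
   ([1, 1, 1, 0, 2, 0, 1, 1, 1, 1, 1, 1, 0, 0, 2, 1], [0, 1, 2, 2, 2, 1, 2, 0, 3, 2, 0, 3, 1, 0, 1, 1]),
   ([1, 0, 2, 1, 1, 2, 1, 1, 1, 2, 2, 2, 0, 1, 1, 2], [1, 2, 3, 0, 3, 3, 3, 0, 0, 0, 0, 1, 2, 1, 3, 0]),
   ([1, 0, 2, 1, 1, 0, 2, 2, 2, 1, 0, 1, 2, 2, 0, 2], [2, 2, 3, 0, 0, 2, 3, 1, 2, 0, 3, 1, 1, 1, 0, 3]),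
   ([0, 2, 1, 2, 2, 0, 1, 1, 1, 2, 0, 0, 2, 1, 2, 2], [1, 2, 0, 2, 2, 0, 3, 3, 1, 2, 2, 0, 0, 1, 1, 1]),
   ([1, 2, 0, 1, 2, 2, 1, 2, 2, 2, 0, 0, 1, 2, 1, 2], [3, 3, 0, 1, 3, 3, 3, 0, 3, 0, 3, 1, 0, 3, 3, 1]),
   ([1, 1, 2, 1, 2, 1, 1, 1, 0, 0, 2, 2, 2, 1, 2, 0], [3, 2, 0, 3, 0, 2, 3, 3, 2, 0, 2, 2, 3, 2, 3, 0]),
   ([0, 2, 1, 0, 1, 2, 2, 2, 1, 0, 0, 1, 2, 0, 0, 1], [3, 2, 0, 1, 3, 2, 2, 0, 1, 0, 3, 2, 0, 3, 3, 2]),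
   ([0, 0, 2, 0, 0, 2, 2, 1, 1, 0, 2, 1, 0, 0, 0, 2], [1, 1, 0, 1, 0, 2, 2, 2, 3, 3, 3, 0, 1, 0, 1, 1]),
   ([0, 1, 0, 2, 1, 2, 0, 1, 0, 1, 1, 0, 2, 1, 1, 2], [3, 1, 1, 0, 3, 2, 3, 0, 1, 1, 3, 0, 0, 0, 0, 1]),
   ([0, 1, 0, 2, 0, 2, 2, 1, 1, 1, 0, 0, 1, 0, 0, 0], [2, 0, 1, 2, 0, 2, 2, 3, 2, 1, 1, 0, 2, 1, 0, 2]),
   ([2, 2, 2, 0, 0, 1, 1, 2, 2, 0, 2, 2, 2, 1, 0, 2], [1, 0, 2, 1, 0, 3, 0, 0, 3, 0, 2, 2, 2, 0, 2, 3]),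
   ([2, 1, 1, 1, 0, 1, 2, 0, 1, 1, 2, 2, 1, 0, 2, 0], [2, 0, 2, 1, 3, 2, 3, 0, 0, 3, 1, 3, 3, 2, 0, 2]),
   ([0, 1, 0, 1, 1, 1, 2, 1, 2, 0, 0, 1, 2, 1, 2, 1], [1, 3, 3, 0, 3, 2, 0, 2, 0, 1, 1, 1, 1, 0, 3, 3]),
   ([2, 2, 2, 1, 2, 2, 1, 2, 2, 0, 2, 2, 1, 0, 1, 0], [0, 1, 0, 0, 2, 0, 1, 2, 3, 0, 1, 1, 2, 0, 2, 1]),
   ([0, 0, 1, 2, 1, 1, 0, 2, 0, 1, 1, 1, 0, 0, 1, 0], [0, 2, 2, 3, 3, 1, 0, 2, 2, 0, 3, 1, 3, 1, 1, 0]),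
   ([1, 1, 1, 1, 0, 2, 0, 2, 1, 2, 2, 2, 2, 1, 0, 0], [3, 0, 3, 1, 3, 0, 2, 2, 3, 0, 1, 3, 0, 3, 0, 0]),
   ([0, 1, 2, 1, 0, 1, 0, 1, 1, 2, 0, 2, 2, 0, 1, 1], [0, 0, 1, 0, 3, 2, 0, 1, 2, 2, 0, 2, 1, 2, 0, 3]),
   ([0, 0, 2, 0, 0, 1, 0, 2, 1, 2, 2, 1, 0, 1, 1, 0], [0, 1, 2, 3, 3, 0, 1, 2, 3, 3, 0, 2, 3, 3, 1, 0]),
   ([0, 0, 1, 2, 1, 1, 2, 0, 0, 1, 0, 0, 1, 1, 0, 0], [3, 0, 1, 2, 0, 1, 0, 0, 3, 0, 2, 1, 3, 0, 3, 3]),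
   ([2, 2, 2, 2, 2, 0, 0, 2, 1, 1, 1, 0, 1, 0, 2, 2], [3, 0, 1, 3, 1, 3, 0, 1, 2, 1, 3, 0, 0, 3, 2, 1]),
   ([2, 2, 2, 2, 1, 1, 2, 0, 2, 0, 1, 0, 1, 2, 2, 1], [0, 2, 1, 2, 0, 2, 2, 1, 2, 0, 0, 0, 0, 2, 3, 3]),
   ([0, 2, 0, 0, 1, 1, 1, 0, 2, 1, 0, 2, 2, 0, 0, 0], [1, 0, 1, 3, 2, 1, 0, 1, 0, 1, 2, 1, 1, 3, 1, 0]),
   ([2, 1, 2, 0, 2, 1, 1, 2, 0, 2, 2, 0, 1, 0, 2, 1], [0, 0, 2, 0, 0, 0, 0, 3, 0, 1, 0, 0, 1, 0, 0, 0]),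
   ([2, 1, 2, 2, 2, 2, 1, 0, 0, 2, 2, 1, 2, 0, 1, 2], [3, 1, 2, 0, 3, 1, 0, 3, 0, 2, 3, 1, 3, 0, 2, 3]),
   ([1, 1, 1, 1, 1, 1, 2, 0, 0, 2, 0, 0, 0, 1, 1, 0], [3, 3, 0, 3, 3, 3, 3, 0, 0, 3, 3, 3, 1, 0, 1, 1]),
   ([1, 1, 2, 2, 0, 1, 2, 0, 0, 0, 1, 0, 0, 2, 0, 1], [3, 3, 2, 0, 0, 0, 0, 2, 1, 3, 1, 0, 2, 3, 3, 0]),
   ([1, 2, 0, 2, 0, 2, 1, 0, 2, 0, 2, 1, 1, 2, 2, 1], [0, 2, 2, 1, 2, 0, 1, 3, 2, 1, 0, 3, 1, 3, 3, 0]),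
   ([2, 0, 2, 1, 2, 1, 1, 1, 1, 0, 0, 1, 2, 1, 1, 2], [2, 2, 2, 0, 2, 0, 2, 1, 2, 2, 0, 1, 0, 2, 2, 1]),
   ([2, 2, 1, 2, 1, 2, 2, 2, 1, 2, 0, 0, 2, 2, 0, 0], [1, 1, 0, 2, 0, 3, 2, 1, 1, 0, 3, 2, 2, 2, 1, 0]),
   ([2, 2, 0, 1, 2, 1, 1, 1, 1, 1, 1, 0, 0, 0, 1, 2], [3, 0, 2, 2, 2, 0, 2, 3, 0, 1, 0, 0, 3, 0, 1, 3]),
   ([0, 1, 2, 0, 2, 1, 0, 1, 1, 2, 1, 0, 2, 0, 0, 1], [0, 1, 1, 2, 2, 3, 3, 0, 3, 1, 0, 2, 1, 0, 2, 3]),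
   ([2, 2, 2, 0, 2, 2, 1, 1, 1, 2, 1, 2, 0, 2, 2, 1], [2, 2, 0, 3, 3, 3, 3, 0, 3, 0, 3, 1, 0, 1, 1, 2]),
   ([1, 2, 0, 2, 1, 2, 2, 1, 2, 0, 2, 1, 1, 0, 1, 1], [0, 2, 3, 1, 1, 0, 2, 3, 1, 1, 2, 0, 3, 3, 0, 2]),
   ([0, 0, 1, 1, 2, 1, 2, 2, 1, 1, 0, 1, 0, 0, 1, 2], [0, 3, 3, 1, 0, 1, 3, 3, 1, 0, 0, 0, 0, 1, 2, 1]),
   ([1, 2, 0, 1, 2, 0, 1, 1, 1, 2, 0, 0, 0, 0, 2, 2], [2, 2, 3, 0, 0, 2, 3, 2, 2, 0, 3, 2, 3, 3, 0, 3]),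
   ([0, 2, 0, 1, 2, 0, 0, 0, 0, 1, 0, 1, 2, 0, 2, 0], [3, 0, 2, 2, 0, 3, 2, 2, 3, 3, 0, 2, 3, 3, 2, 0]),
   ([2, 1, 0, 0, 1, 0, 0, 0, 2, 0, 0, 1, 1, 2, 1, 1], [2, 1, 2, 0, 0, 1, 2, 2, 1, 3, 0, 1, 3, 0, 3, 3]),
   ([1, 1, 0, 0, 0, 0, 1, 2, 1, 1, 2, 2, 1, 2, 2, 1], [3, 1, 2, 0, 1, 0, 3, 2, 0, 2, 3, 2, 1, 2, 0, 2]),
   ([1, 2, 2, 0, 2, 0, 0, 2, 0, 2, 2, 1, 2, 2, 1, 0], [1, 2, 0, 3, 3, 1, 2, 0, 0, 3, 1, 1, 2, 0, 1, 1]),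
   ([0, 0, 0, 1, 1, 0, 0, 1, 1, 2, 2, 1, 2, 0, 1, 0], [0, 3, 0, 0, 0, 0, 3, 0, 1, 0, 0, 0, 0, 0, 0, 3]),
   ([2, 1, 0, 0, 2, 2, 1, 1, 0, 2, 0, 1, 0, 1, 2, 2], [2, 0, 2, 3, 3, 2, 0, 1, 3, 2, 3, 0, 0, 1, 2, 3]),
   ([2, 2, 2, 0, 2, 0, 1, 1, 1, 2, 0, 0, 0, 2, 0, 0], [1, 0, 2, 3, 0, 1, 0, 0, 3, 0, 2, 1, 2, 0, 2, 2]),
   ([2, 0, 1, 2, 2, 2, 0, 1, 0, 0, 2, 1, 1, 1, 0, 1], [1, 3, 2, 0, 3, 3, 3, 0, 0, 0, 0, 2, 1, 2, 3, 0]),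
   ([1, 1, 0, 2, 0, 2, 0, 1, 1, 2, 1, 1, 2, 1, 1, 1], [0, 2, 3, 3, 0, 3, 2, 3, 0, 1, 1, 3, 2, 0, 0, 0]),
   ([0, 0, 2, 0, 0, 1, 0, 0, 1, 2, 1, 0, 0, 1, 1, 1], [3, 1, 2, 0, 0, 3, 1, 3, 2, 3, 0, 3, 2, 0, 1, 3]),
   ([0, 0, 0, 1, 1, 0, 2, 2, 0, 2, 1, 0, 0, 0, 1, 0], [2, 1, 0, 3, 3, 0, 2, 1, 1, 3, 3, 0, 0, 1, 1, 3]),
   ([2, 0, 1, 2, 1, 2, 1, 0, 2, 0, 0, 1, 2, 1, 2, 2], [2, 3, 1, 0, 3, 3, 3, 0, 2, 1, 3, 0, 0, 0, 0, 3]),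
   ([2, 1, 0, 2, 2, 0, 0, 0, 2, 2, 0, 2, 0, 2, 2, 0], [0, 2, 2, 3, 3, 3, 3, 0, 1, 0, 1, 2, 3, 3, 0, 1]),
   ([1, 0, 0, 0, 1, 0, 0, 2, 2, 2, 1, 2, 1, 1, 0, 0], [3, 3, 1, 0, 0, 2, 3, 2, 1, 1, 0, 1, 3, 0, 1, 3]),
   ([0, 1, 2, 1, 2, 1, 2, 2, 0, 1, 0, 2, 1, 2, 0, 1], [2, 3, 2, 0, 0, 2, 1, 2, 2, 3, 0, 3, 3, 0, 3, 1]),
   ([1, 0, 0, 2, 0, 2, 1, 0, 0, 0, 1, 0, 0, 0, 0, 2], [0, 2, 2, 1, 3, 0, 1, 3, 3, 1, 0, 3, 1, 2, 2, 0]),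
   ([0, 1, 2, 0, 2, 2, 0, 1, 1, 0, 0, 0, 2, 1, 0, 1], [0, 0, 0, 1, 1, 0, 0, 0, 0, 2, 0, 0, 0, 0, 3, 0]),
   ([1, 0, 2, 1, 1, 1, 0, 2, 1, 1, 1, 1, 1, 0, 2, 2], [3, 2, 0, 2, 2, 1, 2, 0, 2, 0, 2, 1, 0, 1, 2, 1]),
   ([0, 2, 2, 2, 1, 2, 2, 0, 1, 2, 1, 2, 1, 1, 2, 2], [3, 1, 1, 0, 3, 1, 0, 1, 0, 3, 3, 3, 2, 0, 3, 3]),
   ([2, 1, 2, 2, 0, 2, 2, 0, 2, 0, 0, 2, 2, 0, 0, 1], [1, 0, 2, 2, 1, 1, 2, 0, 1, 1, 0, 2, 0, 2, 3, 3]),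
   ([2, 0, 2, 2, 0, 0, 0, 2, 2, 0, 1, 0, 1, 1, 2, 0], [3, 3, 0, 3, 0, 2, 1, 2, 2, 0, 1, 2, 1, 1, 3, 0]),
   ([2, 0, 2, 0, 2, 1, 2, 1, 2, 2, 1, 1, 2, 2, 2, 0], [1, 3, 0, 3, 2, 2, 0, 3, 0, 0, 1, 0, 2, 3, 0, 2]),
   ([2, 1, 2, 2, 0, 2, 2, 0, 2, 2, 2, 2, 1, 0, 1, 0], [3, 0, 2, 3, 3, 1, 0, 3, 0, 1, 2, 3, 1, 2, 3, 0]),
   ([0, 0, 1, 0, 0, 0, 1, 1, 2, 1, 0, 1, 0, 2, 0, 2], [2, 0, 2, 3, 1, 0, 3, 3, 0, 3, 0, 0, 3, 0, 1, 3]),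
   ([0, 0, 2, 2, 1, 2, 0, 0, 0, 1, 1, 1, 2, 1, 1, 0], [0, 1, 3, 2, 1, 1, 0, 2, 1, 1, 3, 0, 1, 0, 3, 2]),
   ([1, 1, 0, 0, 2, 0, 0, 0, 2, 0, 0, 1, 2, 1, 2, 1], [2, 2, 2, 0, 1, 1, 0, 1, 0, 2, 2, 2, 2, 0, 2, 2]),
   ([1, 1, 0, 2, 1, 0, 0, 0, 2, 2, 0, 2, 2, 0, 1, 2], [0, 2, 1, 1, 3, 3, 0, 2, 1, 0, 3, 3, 3, 3, 2, 0]),
   ([0, 2, 0, 0, 2, 0, 0, 0, 0, 0, 0, 2, 0, 0, 2, 0], [1, 0, 0, 0, 0, 0, 0, 3, 0, 0, 1, 0, 0, 2, 0, 0]),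
   ([1, 2, 0, 0, 2, 2, 2, 2, 1, 0, 1, 0, 1, 2, 1, 1], [2, 3, 1, 0, 1, 0, 3, 2, 0, 3, 1, 3, 1, 2, 0, 2]),
   ([0, 0, 2, 2, 2, 1, 2, 2, 0, 1, 2, 1, 2, 1, 1, 2], [1, 0, 1, 3, 1, 0, 3, 1, 1, 0, 2, 2, 0, 2, 0, 0]),
   ([1, 1, 1, 2, 0, 1, 2, 0, 1, 2, 1, 2, 1, 2, 2, 0], [0, 3, 3, 2, 1, 0, 2, 1, 1, 2, 0, 1, 1, 2, 2, 0]),
   ([1, 2, 0, 1, 1, 0, 1, 1, 1, 1, 2, 0, 2, 1, 1, 0], [2, 0, 2, 3, 3, 3, 3, 0, 0, 2, 2, 3, 2, 2, 0, 3]),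
   ([2, 1, 1, 1, 0, 2, 0, 2, 1, 1, 1, 1, 2, 2, 0, 1], [0, 3, 2, 1, 3, 0, 1, 3, 2, 1, 0, 2, 1, 3, 2, 0]),
   ([1, 2, 0, 2, 0, 1, 0, 1, 0, 0, 1, 0, 0, 2, 1, 0], [0, 0, 0, 2, 3, 1, 3, 0, 2, 1, 1, 0, 2, 2, 3, 0]),
   ([0, 2, 0, 2, 2, 1, 0, 1, 2, 2, 2, 1, 1, 1, 2, 1], [2, 0, 3, 3, 1, 3, 2, 0, 1, 3, 0, 2, 0, 1, 3, 3]),
   ([2, 1, 1, 0, 0, 1, 0, 0, 2, 0, 0, 0, 1, 1, 0, 1], [0, 3, 2, 2, 2, 3, 0, 2, 1, 0, 1, 1, 1, 2, 1, 0]),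
   ([1, 1, 2, 2, 2, 0, 1, 0, 2, 1, 1, 0, 1, 2, 1, 2], [3, 0, 2, 2, 0, 3, 1, 1, 1, 2, 3, 0, 2, 3, 0, 1]),
   ([0, 1, 0, 1, 0, 0, 2, 0, 0, 1, 2, 2, 1, 1, 0, 1], [2, 3, 0, 3, 2, 3, 3, 0, 2, 0, 3, 3, 0, 2, 2, 2]),
   ([0, 0, 0, 2, 0, 0, 1, 0, 0, 1, 0, 0, 2, 0, 0, 0], [0, 3, 1, 2, 2, 0, 2, 3, 1, 3, 0, 2, 3, 2, 3, 0]),
   ([0, 1, 0, 0, 0, 1, 2, 0, 2, 2, 0, 1, 1, 0, 0, 0], [3, 1, 0, 3, 2, 0, 1, 2, 3, 1, 2, 0, 0, 3, 1, 2]),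
   ([1, 1, 1, 2, 1, 1, 2, 1, 1, 0, 2, 0, 1, 2, 2, 0], [3, 2, 0, 2, 0, 2, 2, 2, 3, 2, 2, 0, 1, 0, 3, 3]),
   ([2, 2, 1, 1, 1, 0, 2, 0, 2, 2, 1, 0, 2, 0, 2, 2], [2, 2, 1, 0, 0, 0, 0, 2, 3, 2, 3, 0, 1, 2, 2, 0]),
   ([2, 2, 2, 1, 2, 1, 0, 1, 2, 1, 1, 2, 2, 2, 0, 0], [2, 1, 0, 1, 0, 3, 2, 3, 2, 1, 3, 0, 3, 0, 1, 2]),
   ([2, 2, 1, 0, 1, 2, 0, 2, 1, 1, 0, 1, 0, 0, 2, 1], [1, 1, 2, 0, 3, 2, 2, 0, 0, 0, 0, 1, 1, 2, 1, 0]),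
   ([2, 0, 0, 0, 0, 2, 0, 2, 0, 2, 2, 2, 2, 0, 0, 2], [1, 2, 0, 1, 2, 3, 1, 0, 1, 0, 3, 1, 0, 1, 2, 3]),
   ([1, 1, 0, 1, 2, 1, 2, 2, 2, 1, 1, 1, 2, 0, 2, 1], [0, 2, 3, 1, 1, 0, 0, 0, 0, 3, 3, 3, 0, 1, 3, 2]),
   ([0, 2, 0, 1, 0, 0, 1, 0, 0, 0, 1, 2, 2, 2, 1, 1], [3, 0, 3, 1, 3, 0, 1, 3, 0, 1, 0, 0, 2, 0, 1, 1]),
   ([1, 0, 2, 1, 0, 1, 1, 0, 1, 0, 0, 1, 0, 2, 2, 1], [3, 2, 1, 0, 3, 3, 3, 0, 0, 0, 0, 1, 3, 1, 2, 0]),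
   ([0, 2, 1, 1, 2, 2, 1, 2, 0, 1, 0, 1, 0, 0, 2, 0], [2, 2, 1, 0, 2, 0, 1, 2, 0, 1, 3, 1, 3, 3, 0, 3]),
   ([1, 0, 0, 2, 2, 2, 1, 1, 1, 1, 0, 1, 1, 2, 1, 1], [2, 3, 1, 0, 3, 1, 0, 2, 3, 0, 2, 2, 0, 1, 2, 2]),
   ([0, 1, 0, 1, 1, 2, 2, 2, 0, 0, 1, 1, 0, 0, 1, 0], [0, 2, 1, 3, 1, 0, 3, 2, 2, 2, 0, 3, 2, 2, 1, 0]),
   ([1, 0, 1, 2, 2, 1, 1, 1, 1, 1, 1, 0, 0, 1, 2, 1], [1, 1, 0, 3, 2, 0, 2, 1, 3, 3, 3, 0, 0, 2, 2, 1]),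
   ([2, 2, 0, 1, 1, 0, 2, 1, 1, 1, 0, 1, 1, 0, 0, 0], [1, 2, 0, 3, 2, 3, 3, 0, 1, 0, 2, 3, 0, 3, 3, 1]),
   ([2, 2, 0, 1, 2, 1, 1, 1, 2, 0, 0, 2, 0, 2, 2, 2], [0, 1, 2, 3, 2, 3, 1, 0, 1, 0, 3, 1, 1, 2, 0, 1]),
   ([1, 1, 2, 1, 0, 1, 2, 2, 0, 1, 0, 2, 1, 2, 0, 1], [0, 1, 1, 1, 2, 3, 3, 0, 3, 1, 0, 1, 2, 0, 3, 3]),
   ([0, 1, 2, 2, 0, 1, 1, 2, 2, 0, 1, 2, 1, 2, 1, 0], [0, 0, 3, 0, 2, 2, 0, 1, 3, 1, 0, 1, 3, 2, 0, 3]),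
   ([1, 2, 2, 2, 0, 2, 2, 1, 1, 0, 1, 1, 2, 2, 1, 2], [2, 0, 1, 2, 3, 1, 0, 3, 1, 2, 3, 0, 0, 2, 3, 1]),
   ([2, 0, 0, 0, 2, 1, 0, 2, 0, 2, 2, 0, 2, 2, 0, 2], [0, 2, 2, 3, 2, 2, 0, 3, 1, 0, 1, 2, 1, 1, 1, 0]),
   ([1, 0, 0, 1, 2, 0, 0, 1, 0, 1, 2, 0, 0, 1, 1, 0], [0, 2, 3, 2, 3, 2, 3, 0, 3, 2, 0, 2, 3, 0, 3, 2]),
   ([0, 1, 0, 2, 2, 2, 0, 1, 2, 2, 2, 2, 1, 2, 2, 1], [0, 0, 0, 2, 3, 2, 3, 0, 1, 1, 3, 0, 2, 3, 3, 0]),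
   ([2, 1, 0, 1, 0, 1, 2, 0, 0, 2, 0, 0, 1, 2, 1, 0], [2, 2, 0, 1, 1, 0, 2, 3, 2, 2, 3, 0, 0, 2, 3, 1]),
   ([2, 0, 1, 1, 0, 0, 0, 1, 2, 0, 0, 0, 1, 2, 0, 1], [1, 2, 2, 0, 0, 3, 3, 3, 3, 1, 0, 1, 1, 0, 2, 2]),
   ([0, 1, 1, 1, 2, 2, 1, 1, 0, 1, 0, 2, 1, 1, 1, 2], [2, 2, 0, 1, 3, 0, 1, 2, 3, 3, 1, 0, 0, 2, 3, 1]),
   ([1, 1, 1, 1, 0, 1, 2, 2, 2, 1, 1, 0, 2, 0, 0, 2], [1, 3, 2, 0, 3, 0, 1, 2, 0, 1, 3, 1, 2, 1, 0, 1]),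
   ([2, 1, 1, 2, 1, 0, 0, 1, 2, 2, 2, 0, 2, 1, 2, 0], [0, 2, 2, 1, 1, 3, 0, 2, 3, 2, 2, 0, 1, 0, 3, 2]),
   ([1, 2, 2, 0, 2, 0, 0, 2, 0, 0, 0, 2, 0, 0, 2, 2], [0, 3, 1, 3, 3, 0, 3, 2, 1, 3, 0, 3, 1, 3, 1, 0]),
   ([2, 2, 2, 1, 0, 2, 1, 0, 1, 0, 1, 2, 2, 2, 0, 0], [3, 3, 0, 2, 1, 1, 3, 0, 0, 2, 1, 1, 3, 0, 2, 2]),
   ([2, 0, 2, 0, 2, 2, 2, 0, 1, 2, 0, 1, 1, 2, 1, 2], [0, 1, 1, 3, 1, 0, 2, 1, 1, 2, 0, 1, 3, 1, 1, 0]),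
   ([0, 0, 1, 2, 2, 2, 1, 0, 2, 0, 1, 0, 2, 2, 1, 2], [2, 0, 1, 3, 0, 1, 0, 0, 1, 0, 2, 3, 3, 0, 3, 3]),
   ([1, 1, 0, 2, 2, 2, 1, 0, 0, 1, 0, 0, 1, 2, 1, 0], [2, 2, 1, 0, 1, 2, 2, 0, 0, 0, 0, 2, 3, 2, 3, 0]),
   ([2, 1, 2, 1, 0, 2, 1, 0, 0, 0, 2, 0, 0, 2, 0, 2], [0, 1, 3, 3, 2, 1, 0, 3, 2, 1, 3, 0, 3, 0, 1, 1]),
   ([2, 0, 1, 1, 0, 1, 2, 0, 1, 1, 0, 2, 2, 2, 2, 2], [3, 0, 2, 3, 0, 1, 1, 2, 1, 3, 0, 1, 3, 2, 2, 0]),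
   ([2, 2, 2, 1, 2, 1, 2, 2, 1, 0, 2, 1, 2, 2, 0, 0], [1, 0, 0, 0, 0, 1, 1, 1, 0, 1, 2, 3, 0, 1, 3, 2]),
   ([1, 1, 2, 2, 2, 0, 1, 0, 2, 2, 1, 2, 0, 0, 2, 1], [1, 0, 1, 1, 0, 1, 1, 1, 2, 2, 0, 2, 3, 3, 3, 0]),
   ([0, 2, 0, 2, 2, 1, 1, 1, 2, 1, 0, 0, 0, 2, 2, 2], [0, 0, 3, 0, 0, 1, 0, 0, 3, 0, 0, 0, 0, 0, 0, 3]),
   ([1, 1, 1, 2, 1, 2, 0, 2, 2, 1, 2, 0, 1, 0, 1, 0], [3, 0, 0, 0, 0, 0, 1, 0, 0, 0, 0, 1, 0, 2, 0, 0]),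
   ([0, 2, 2, 1, 2, 1, 0, 1, 1, 0, 0, 0, 0, 1, 0, 2], [1, 0, 3, 1, 0, 1, 2, 3, 3, 1, 2, 0, 3, 1, 0, 3]),
   ([2, 2, 0, 2, 1, 1, 2, 2, 2, 1, 2, 1, 0, 2, 0, 2], [2, 2, 1, 0, 3, 0, 2, 2, 3, 3, 0, 2, 0, 1, 3, 3]),
   ([1, 2, 0, 0, 1, 2, 1, 1, 2, 2, 0, 2, 0, 2, 1, 1], [1, 1, 0, 2, 0, 2, 3, 3, 3, 0, 1, 1, 2, 2, 3, 0]),
   ([2, 2, 0, 0, 2, 0, 0, 0, 0, 0, 0, 2, 1, 0, 2, 1], [0, 1, 1, 1, 1, 1, 0, 1, 3, 3, 3, 0, 2, 0, 2, 2]),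
   ([0, 2, 0, 0, 2, 0, 0, 0, 1, 0, 0, 2, 2, 1, 2, 0], [3, 1, 1, 0, 0, 3, 3, 1, 3, 1, 0, 2, 1, 0, 2, 3]),
   ([0, 0, 2, 2, 1, 2, 1, 0, 1, 0, 1, 0, 2, 1, 2, 2], [2, 1, 0, 3, 0, 0, 2, 0, 1, 1, 0, 1, 2, 3, 0, 1]),
   ([1, 0, 0, 0, 2, 0, 0, 2, 1, 1, 1, 1, 0, 1, 0, 1], [3, 1, 3, 0, 2, 1, 1, 0, 2, 2, 3, 0, 0, 0, 0, 2]),
   ([1, 2, 2, 0, 0, 2, 0, 0, 0, 2, 1, 0, 1, 2, 1, 2], [1, 1, 0, 2, 3, 3, 2, 0, 0, 2, 1, 3, 1, 0, 3, 2]),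
   ([2, 0, 2, 2, 1, 1, 2, 2, 0, 1, 0, 2, 2, 0, 2, 0], [2, 2, 2, 0, 3, 0, 3, 3, 3, 3, 0, 3, 0, 2, 2, 2]),
   ([1, 0, 2, 1, 2, 0, 1, 1, 0, 1, 2, 0, 2, 1, 2, 1], [1, 2, 0, 3, 3, 1, 3, 0, 0, 3, 2, 1, 1, 0, 1, 3]),
   ([0, 1, 1, 2, 2, 2, 2, 0, 0, 1, 0, 0, 1, 1, 0, 0], [1, 2, 0, 2, 0, 3, 1, 3, 2, 0, 1, 3, 1, 2, 3, 0]),
   ([0, 1, 1, 1, 2, 1, 2, 0, 1, 0, 0, 2, 1, 1, 2, 2], [3, 0, 2, 2, 3, 2, 0, 2, 0, 1, 1, 1, 2, 1, 1, 0]),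
   ([0, 0, 2, 2, 2, 1, 1, 1, 0, 1, 0, 1, 0, 0, 2, 0], [1, 0, 1, 2, 1, 2, 1, 0, 0, 3, 2, 3, 1, 2, 0, 2]),
   ([1, 2, 1, 0, 2, 2, 0, 1, 2, 2, 2, 2, 1, 2, 2, 1], [1, 1, 0, 2, 0, 3, 2, 1, 3, 3, 2, 0, 3, 0, 2, 1]),
   ([1, 2, 2, 2, 1, 1, 0, 2, 2, 1, 0, 2, 0, 0, 2, 2], [1, 3, 3, 0, 0, 3, 3, 1, 3, 0, 2, 3, 1, 3, 0, 1]),
   ([2, 2, 1, 0, 1, 2, 2, 0, 1, 1, 0, 1, 1, 2, 1, 1], [3, 1, 0, 2, 0, 2, 3, 3, 3, 0, 2, 2, 1, 2, 3, 0]),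
   ([0, 0, 2, 0, 0, 0, 0, 2, 1, 0, 0, 2, 0, 1, 2, 0], [3, 2, 0, 1, 2, 1, 2, 0, 0, 1, 2, 3, 3, 0, 3, 1]),
   ([0, 0, 2, 1, 1, 1, 1, 1, 0, 2, 1, 1, 2, 2, 0, 2], [0, 2, 3, 3, 2, 2, 0, 3, 3, 0, 1, 1, 1, 1, 2, 0]),
   ([2, 2, 2, 2, 1, 2, 1, 2, 1, 1, 2, 2, 2, 1, 1, 2], [2, 1, 1, 0, 3, 2, 0, 3, 0, 3, 3, 1, 3, 0, 2, 3]),
   ([2, 1, 0, 2, 0, 0, 1, 1, 2, 1, 1, 1, 1, 1, 0, 2], [1, 3, 0, 2, 3, 2, 1, 0, 3, 0, 1, 1, 0, 1, 3, 3]),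
   ([2, 1, 2, 1, 2, 0, 2, 0, 2, 2, 2, 0, 2, 2, 1, 1], [1, 3, 0, 3, 1, 2, 0, 1, 0, 0, 1, 0, 3, 3, 0, 1]),
   ([2, 1, 1, 1, 2, 1, 0, 0, 0, 2, 2, 2, 2, 2, 0, 1], [0, 3, 1, 2, 1, 3, 1, 0, 1, 0, 1, 2, 1, 3, 0, 2]),
   ([0, 2, 0, 1, 2, 0, 0, 0, 0, 1, 0, 1, 1, 0, 2, 0], [0, 0, 0, 2, 3, 2, 3, 0, 1, 2, 2, 0, 2, 2, 1, 0]),
   ([2, 1, 0, 2, 2, 0, 0, 0, 0, 2, 0, 2, 2, 1, 2, 1], [0, 2, 1, 1, 1, 0, 3, 3, 3, 3, 0, 2, 3, 3, 2, 0]),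
   ([2, 2, 2, 1, 2, 1, 2, 2, 0, 1, 1, 0, 1, 1, 2, 1], [3, 2, 3, 0, 3, 0, 3, 3, 0, 3, 1, 1, 1, 3, 0, 1]),
   ([0, 2, 2, 2, 2, 0, 0, 2, 1, 2, 2, 2, 0, 1, 0, 1], [2, 3, 1, 0, 0, 3, 1, 1, 2, 3, 0, 1, 2, 0, 1, 1]),
   ([2, 0, 0, 0, 1, 2, 0, 1, 1, 2, 2, 0, 0, 2, 0, 0], [1, 2, 2, 0, 3, 0, 1, 2, 0, 1, 1, 2, 2, 3, 0, 1]),
   ([2, 0, 0, 0, 0, 2, 0, 2, 0, 0, 2, 0, 0, 2, 0, 1], [2, 2, 2, 0, 0, 3, 3, 2, 2, 0, 2, 1, 1, 1, 0, 3]),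
   ([0, 2, 2, 0, 1, 0, 2, 1, 0, 1, 1, 2, 2, 0, 2, 2], [2, 0, 1, 2, 2, 1, 1, 0, 2, 1, 0, 2, 0, 2, 2, 3]),
   ([0, 1, 0, 1, 2, 1, 0, 1, 1, 1, 1, 2, 1, 1, 2, 1], [3, 3, 0, 1, 2, 1, 0, 1, 0, 0, 3, 0, 1, 2, 0, 1]),
   ([2, 1, 0, 1, 0, 1, 0, 1, 1, 1, 2, 1, 1, 0, 1, 1], [2, 1, 1, 0, 0, 2, 2, 2, 1, 0, 3, 3, 1, 3, 0, 3]),
   ([1, 1, 0, 0, 2, 2, 1, 2, 2, 0, 1, 0, 1, 2, 2, 1], [0, 1, 3, 1, 0, 1, 1, 3, 2, 0, 0, 0, 0, 1, 2, 2]),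
   ([1, 0, 0, 2, 1, 1, 2, 1, 2, 1, 0, 2, 0, 2, 1, 2], [2, 1, 2, 0, 1, 1, 3, 0, 0, 0, 0, 1, 1, 2, 2, 0]),
   ([1, 2, 2, 2, 0, 2, 2, 1, 0, 1, 2, 2, 2, 0, 2, 1], [3, 0, 2, 1, 3, 0, 1, 2, 0, 1, 0, 0, 3, 0, 3, 3]),
   ([1, 0, 1, 0, 0, 0, 0, 1, 0, 0, 1, 0, 0, 2, 0, 0], [0, 3, 0, 0, 3, 0, 1, 3, 2, 0, 1, 1, 1, 0, 1, 2]),
   ([0, 1, 2, 0, 0, 1, 1, 0, 2, 0, 2, 2, 1, 0, 1, 2], [2, 0, 3, 1, 0, 1, 2, 3, 1, 1, 2, 0, 3, 3, 0, 2]),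
   ([1, 2, 1, 0, 1, 1, 2, 1, 0, 2, 0, 2, 2, 0, 2, 0], [1, 3, 1, 0, 3, 0, 3, 1, 0, 3, 1, 2, 2, 1, 0, 3]),
   ([2, 2, 2, 0, 0, 1, 0, 0, 1, 0, 0, 0, 1, 2, 0, 1], [1, 0, 1, 3, 3, 2, 3, 0, 0, 1, 2, 1, 3, 2, 0, 2]),
   ([1, 0, 1, 1, 1, 1, 2, 2, 0, 2, 0, 1, 1, 2, 0, 1], [2, 2, 1, 0, 3, 3, 0, 1, 3, 0, 2, 1, 0, 2, 1, 3]),
   ([2, 2, 1, 0, 1, 2, 0, 2, 0, 2, 0, 2, 2, 0, 1, 0], [0, 2, 2, 1, 3, 0, 1, 3, 2, 3, 3, 0, 2, 3, 0, 2]),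
   ([1, 1, 0, 0, 1, 0, 0, 0, 2, 0, 0, 1, 1, 2, 1, 2], [0, 0, 0, 2, 0, 0, 1, 0, 2, 0, 0, 0, 0, 2, 0, 0]),
   ([1, 1, 1, 0, 0, 1, 0, 0, 1, 2, 2, 0, 1, 0, 0, 1], [0, 1, 2, 2, 2, 0, 0, 0, 0, 3, 2, 3, 0, 2, 2, 1]),
   ([2, 0, 1, 2, 1, 1, 0, 2, 0, 0, 2, 1, 1, 1, 0, 0], [2, 2, 3, 0, 3, 0, 1, 3, 1, 1, 0, 1, 0, 3, 1, 3])]

def tStep : List (List (ℕ × ℕ)) :=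
  [[(0, 1), (2, 0), (5, 0), (8, 0), (11, 0), (1, 7), (16, 0), (18, 0), (21, 0), (24, 0), (27, 0), (30, 0), (33, 0), (25, 206), (38, 0), (41, 0), (34, 79), (22, 89), (45, 0), (19, 190), (50, 0), (3, 7), (54, 0), (37, 24), (58, 0), (61, 0), (23, 8), (66, 0), (69, 0), (72, 0), (4, 7), (53, 204), (77, 0), (78, 197), (6, 31), (82, 0), (31, 150), (26, 165), (86, 0), (88, 0), (91, 0), (90, 54), (95, 0), (98, 0), (101, 0), (7, 7), (106, 0), (70, 212), (109, 0), (111, 0), (113, 0), (114, 0), (63, 17), (36, 208), (17, 94), (121, 0), (124, 0), (126, 0), (9, 7), (127, 0), (129, 0), (13, 90), (39, 200), (134, 0), (125, 67), (137, 0), (10, 7), (28, 146), (42, 30), (67, 43), (143, 141), (145, 0), (146,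 0), (55, 82), (150, 0), (152, 0), (153, 0), (103, 142), (12, 24), (118, 175), (79, 89), (158, 0), (160, 0), (48, 51), (163, 0), (154, 94), (14, 7), (166, 0), (62, 215), (75, 117), (15, 139), (171, 0), (174, 0), (176, 0), (178, 0), (68, 15), (44, 62), (132, 125), (135, 6), (165, 200), (56, 137), (96, 44), (138, 31), (32, 177), (110, 23), (185, 0), (162, 21), (188, 0), (105, 4), (83, 141), (190, 0), (191, 0), (81, 126), (20, 7), (195, 0), (172, 7), (196, 0), (198, 0), (80, 9), (199, 0), (59, 0), (73, 113), (201, 0), (60, 177), (100, 187), (155, 114), (205, 0), (120, 7), (93, 72), (123, 142), (130, 48), (149, 147), (208, 0), (194, 89), (52, 102), (43, 178), (136, 1), (141, 109), (210, 0), (133,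 165), (168, 0), (65, 72), (215, 0), (47, 14), (173, 140), (218, 0), (29, 7), (219, 88), (200, 7), (206, 202), (180, 70), (140, 119), (89, 61), (203, 162), (224, 0), (64, 153), (156, 185), (157, 119), (112, 85), (181, 153), (35, 7), (228, 0), (46, 93), (193, 39), (183, 179), (222, 63), (225, 21), (192, 97), (151, 167), (233, 0), (144, 103), (40, 7), (231, 76), (170, 211), (229, 207), (142, 153), (128, 109), (213, 120), (179, 137), (94, 187), (74, 121), (207, 194), (161, 66), (235, 0), (223, 83), (108, 188), (214, 141), (167, 114), (232, 32), (189, 108), (104, 95), (49, 7), (187, 200), (84, 161), (139, 133), (51, 7), (221, 81), (184, 90), (230, 6), (226, 118), (212, 127), (237, 0), (202, 193),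 (76, 179), (204, 180), (57, 7), (131, 0), (159, 206), (97, 212), (186, 124), (102, 79), (177, 111), (148, 50), (211, 123), (209, 61), (175, 118), (236, 18), (217, 122), (71, 7), (220, 166), (147, 199), (116, 132), (99, 25), (197, 81), (85, 89), (87, 93), (119, 153), (216, 16), (182, 131), (92, 2), (117, 178), (115, 25), (107, 71), (239, 62), (234, 114), (164, 162), (227, 8), (122, 7), (238, 190), (169, 44)],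
   [(0, 2), (3, 0), (6, 0), (9, 0), (12, 0), (14, 0), (5, 200), (19, 0), (22, 0), (25, 0), (28, 0), (31, 0), (34, 0), (36, 0), (39, 0), (42, 0), (17, 22), (11, 85), (46, 0), (48, 0), (51, 0), (52, 0), (21, 200), (56, 0), (59, 0), (62, 0), (64, 0), (67, 0), (70, 0), (73, 0), (24, 61), (75, 0), (78, 0), (80, 0), (53, 195), (66, 113), (8, 206), (85, 0), (54, 7), (89, 0), (92, 0), (93, 0), (96, 0), (99, 0), (102, 0), (104, 0), (71, 157), (107, 0), (110, 0), (112, 0), (57, 181), (115, 0), (32, 161), (118, 0), (120, 0), (122, 0), (125, 0), (108, 166), (79, 10), (58, 200), (61, 115), (131, 0), (103, 76), (127, 102), (135, 0), (138, 0), (82, 201), (140, 0), (141, 0), (143, 0), (69, 21), (106, 162),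 (147, 0), (148, 0), (84, 161), (33, 26), (154, 0), (60, 1), (77, 95), (2, 135), (63, 133), (159, 0), (10, 153), (162, 0), (164, 0), (165, 0), (129, 47), (95, 54), (30, 79), (88, 200), (169, 0), (172, 0), (74, 16), (177, 0), (119, 164), (166, 89), (128, 151), (181, 0), (100, 208), (178, 125), (23, 185), (137, 185), (65, 28), (1, 171), (7, 199), (186, 0), (83, 82), (27, 212), (114, 117), (189, 0), (109, 175), (192, 0), (111, 174), (150, 147), (142, 210), (126, 198), (197, 0), (40, 140), (149, 69), (98, 106), (123, 66), (200, 0), (121, 175), (4, 197), (203, 0), (76, 75), (175, 128), (206, 0), (68, 178), (16, 96), (156, 68), (13, 22), (136, 32), (72, 103), (38, 194), (37, 163), (187, 0), (41,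 135), (211, 0), (212, 0), (160, 154), (213, 0), (209, 172), (188, 182), (216, 0), (190, 49), (219, 0), (146, 21), (220, 0), (152, 183), (221, 0), (35, 15), (134, 133), (222, 47), (153, 101), (224, 147), (130, 67), (45, 48), (202, 28), (158, 23), (47, 11), (229, 0), (18, 51), (184, 17), (117, 58), (155, 143), (44, 116), (217, 34), (232, 0), (176, 163), (228, 139), (173, 84), (171, 200), (183, 77), (161, 196), (223, 46), (87, 89), (15, 213), (26, 15), (43, 110), (215, 180), (132, 191), (50, 13), (185, 11), (193, 158), (235, 86), (170, 201), (207, 28), (168, 188), (145, 210), (218, 104), (208, 145), (191, 175), (205, 142), (29, 45), (230, 132), (236, 0), (144, 87), (195, 140), (124, 180), (139,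 105), (194, 9), (97, 50), (199, 143), (234, 12), (174, 134), (86, 0), (167, 204), (49, 179), (116, 90), (233, 49), (239, 0), (133, 81), (101, 29), (198, 139), (91, 28), (231, 34), (81, 184), (157, 63), (237, 113), (201, 199), (180, 133), (226, 38), (105, 139), (179, 72), (210, 87), (94, 132), (163, 202), (196, 194), (214, 42), (227, 141), (182, 194), (151, 150), (225, 138), (204, 122), (113, 134), (20, 43), (55, 101), (238, 181), (90, 80)],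
   [(1, 0), (4, 0), (7, 0), (10, 0), (13, 0), (15, 0), (17, 0), (20, 0), (23, 0), (26, 0), (29, 0), (32, 0), (35, 0), (37, 0), (40, 0), (28, 91), (43, 0), (44, 0), (47, 0), (49, 0), (2, 192), (53, 0), (55, 0), (57, 0), (60, 0), (63, 0), (65, 0), (68, 0), (71, 0), (52, 64), (74, 0), (76, 0), (79, 0), (22, 73), (81, 0), (83, 0), (84, 0), (72, 9), (87, 0), (90, 0), (33, 84), (94, 0), (97, 0), (100, 0), (103, 0), (105, 0), (77, 160), (108, 0), (34, 52), (58, 166), (88, 210), (116, 0), (117, 0), (119, 0), (75, 84), (123, 0), (122, 40), (104, 95), (69, 50), (128, 0), (130, 0), (132, 0), (133, 0), (5, 107), (136, 0), (139, 0), (93, 118), (30, 89), (142, 0), (6, 100), (144, 0), (27, 54), (112, 156),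 (149, 0), (151, 0), (54, 134), (109, 43), (146, 40), (155, 0), (156, 0), (157, 0), (42, 109), (161, 0), (73, 135), (120, 109), (45, 133), (138, 102), (167, 0), (86, 178), (168, 0), (170, 0), (173, 0), (175, 0), (19, 72), (66, 213), (179, 0), (180, 0), (182, 0), (62, 2), (174, 31), (176, 23), (183, 0), (184, 0), (41, 49), (150, 30), (187, 0), (171, 132), (98, 56), (134, 200), (38, 113), (8, 49), (193, 0), (194, 0), (124, 68), (36, 154), (195, 45), (51, 64), (121, 164), (110, 149), (165, 192), (89, 112), (160, 140), (95, 89), (202, 0), (197, 167), (204, 0), (189, 53), (200, 209), (190, 15), (207, 0), (203, 211), (152, 200), (209, 0), (67, 203), (24, 2), (153, 26), (46, 67), (137, 102), (96,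 181), (64, 42), (16, 181), (214, 0), (163, 94), (107, 130), (217, 0), (85, 175), (131, 75), (126, 116), (215, 98), (213, 119), (78, 173), (148, 28), (222, 0), (223, 0), (141, 149), (159, 80), (225, 0), (106, 56), (101, 83), (226, 0), (227, 0), (114, 193), (169, 133), (205, 199), (216, 165), (230, 0), (231, 0), (31, 26), (80, 46), (232, 133), (181, 76), (82, 193), (118, 157), (0, 43), (158, 0), (229, 203), (234, 0), (166, 210), (178, 115), (113, 193), (50, 152), (198, 77), (48, 38), (218, 6), (129, 73), (196, 136), (21, 15), (206, 37), (208, 37), (191, 54), (102, 198), (56, 54), (140, 86), (212, 90), (224, 69), (70, 125), (14, 172), (221, 7), (59, 155), (143, 112), (192, 66), (211, 50), (111,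 190), (177, 63), (92, 52), (238, 0), (145, 204), (39, 182), (220, 157), (61, 96), (219, 36), (3, 205), (185, 155), (239, 98), (233, 152), (199, 116), (235, 139), (162, 119), (99, 45), (201, 129), (228, 46), (147, 127), (9, 192), (188, 15), (236, 193), (135, 79), (172, 122), (210, 6), (11, 157), (12, 189), (186, 4), (237, 176), (154, 198), (115, 161), (164, 91), (127, 148), (91, 108), (18, 170), (25, 202), (125, 97)]]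

def tParent : List (ℕ × ℕ) :=
  [(0, 0), (2, 0), (0, 1), (1, 1), (2, 1), (0, 2), (1, 2), (2, 2), (0, 3), (1, 3),
   (2, 3), (0, 4), (1, 4), (2, 4), (1, 5), (2, 5), (0, 6), (2, 6), (0, 7), (1, 7),
   (2, 7), (0, 8), (1, 8), (2, 8), (0, 9), (1, 9), (2, 9), (0, 10), (1, 10), (2, 10),
   (0, 11), (1, 11), (2, 11), (0, 12), (1, 12), (2, 12), (1, 13), (2, 13), (0, 14), (1, 14),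
   (2, 14), (0, 15), (1, 15), (2, 16), (2, 17), (0, 18), (1, 18), (2, 18), (1, 19), (2, 19),
   (0, 20), (1, 20), (1, 21), (2, 21), (0, 22), (2, 22), (1, 23), (2, 23), (0, 24), (1, 24),
   (2, 24), (0, 25), (1, 25), (2, 25), (1, 26), (2, 26), (0, 27), (1, 27), (2, 27), (0, 28),
   (1, 28), (2, 28), (0, 29), (1, 29), (2, 30), (1, 31), (2, 31), (0, 32), (1, 32), (2, 32),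
   (1, 33), (2, 34), (0, 35), (2, 35), (2, 36), (1, 37), (0, 38), (2, 38), (0, 39), (1, 39),
   (2, 39), (0, 40), (1, 40), (1, 41), (2, 41), (0, 42), (1, 42), (2, 42), (0, 43), (1, 43),
   (2, 43), (0, 44), (1, 44), (2, 44), (1, 45), (2, 45), (0, 46), (1, 47), (2, 47), (0, 48),
   (1, 48), (0, 49), (1, 49), (0, 50), (0, 51), (1, 51), (2, 51), (2, 52), (1, 53), (2, 53),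
   (1, 54), (0, 55), (1, 55), (2, 55), (0, 56), (1, 56), (0, 57), (0, 59), (2, 59), (0, 60),
   (2, 60), (1, 61), (2, 61), (2, 62), (0, 63), (1, 64), (2, 64), (0, 65), (1, 65), (2, 65),
   (1, 67), (1, 68), (2, 68), (1, 69), (2, 70), (0, 71), (0, 72), (1, 72), (1, 73), (2, 73),
   (0, 74), (2, 74), (0, 75), (0, 76), (1, 76), (2, 78), (2, 79), (2, 80), (0, 81), (1, 81),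
   (0, 82), (2, 82), (1, 83), (0, 84), (1, 84), (1, 85), (0, 87), (2, 87), (2, 89), (1, 90),
   (2, 90), (0, 91), (1, 91), (2, 91), (0, 92), (2, 92), (0, 93), (1, 93), (0, 94), (2, 95),
   (2, 96), (1, 97), (2, 97), (2, 101), (2, 102), (0, 105), (1, 105), (2, 105), (0, 107), (1, 109),
   (0, 110), (0, 111), (1, 111), (2, 111), (2, 112), (0, 114), (0, 116), (1, 116), (0, 117), (0, 119),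
   (1, 121), (0, 122), (2, 123), (1, 124), (2, 125), (0, 126), (1, 127), (2, 129), (0, 132), (2, 132),
   (0, 138), (1, 138), (1, 139), (1, 141), (2, 141), (0, 142), (1, 144), (2, 144), (0, 145), (1, 146),
   (1, 148), (1, 150), (2, 152), (2, 153), (0, 154), (2, 156), (2, 159), (2, 160), (0, 161), (1, 161),
   (2, 165), (2, 166), (1, 168), (0, 169), (2, 176), (0, 183), (1, 196), (0, 201), (2, 205), (1, 211)]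

/-- Normal forms of the transvections. -/
def witness : List (ℕ × ℕ) :=
  [(0, 0), (0, 0), (130, 42), (204, 10), (130, 42), (204, 10), (178, 114), (224, 77),
   (85, 134), (26, 132), (23, 154), (94, 130), (178, 114), (224, 77), (23, 154), (94, 130),
   (85, 134), (26, 132), (156, 107), (204, 207), (130, 150), (234, 158), (156, 170), (234, 47),
   (165, 103), (64, 85), (98, 104), (222, 11), (155, 59), (135, 47), (199, 141), (203, 29),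
   (119, 180), (153, 111), (226, 70), (76, 151), (156, 107), (204, 207), (156, 170), (234, 47),
   (130, 150), (234, 158), (199, 141), (203, 29), (226, 70), (76, 151), (119, 180), (153, 111),
   (165, 103), (64, 85), (155, 59), (135, 47), (98, 104), (222, 11), (0, 29), (0, 73),
   (130, 45), (204, 13), (130, 179), (204, 33), (224, 100), (37, 0), (26, 145), (179, 189),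
   (94, 154), (154, 110), (37, 187), (178, 172), (154, 141), (23, 130), (179, 18), (85, 104),
   (156, 181), (204, 151), (130, 26), (234, 141), (156, 153), (234, 98), (64, 95), (43, 9),
   (222, 143), (125, 53), (135, 55), (99, 156), (124, 139), (199, 13), (56, 125), (119, 21),
   (100, 173), (226, 95), (156, 104), (204, 208), (156, 146), (234, 102), (130, 24), (234, 80),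
   (203, 93), (124, 54), (76, 191), (100, 52), (153, 155), (56, 76), (43, 145), (165, 64),
   (99, 95), (155, 106), (125, 68), (98, 5), (0, 29), (0, 73), (130, 179), (204, 33),
   (130, 45), (204, 13), (37, 187), (178, 172), (179, 18), (85, 104), (154, 141), (23, 130),
   (224, 100), (37, 0), (94, 154), (154, 110), (26, 145), (179, 189), (156, 104), (204, 208),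
   (130, 24), (234, 80), (156, 146), (234, 102), (43, 145), (165, 64), (125, 68), (98, 5),
   (99, 95), (155, 106), (203, 93), (124, 54), (153, 155), (56, 76), (76, 191), (100, 52),
   (156, 181), (204, 151), (156, 153), (234, 98), (130, 26), (234, 141), (124, 139), (199, 13),
   (100, 173), (226, 95), (56, 125), (119, 21), (64, 95), (43, 9), (135, 55), (99, 156),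
   (222, 143), (125, 53)]

/-- The size of the subgroup. -/
def uSize : ℕ := 216

/-- The size of the transversal. -/
def tSize : ℕ := 240

end CfsgLib.U42
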